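import Cfsg.Agent.Lib.Invol.CentralNonab.Basic
import Cfsg.Agent.Lib.Coprime.Component
import Cfsg.Agent.Lib.Coprime.Fitting
import Cfsg.Agent.Lib.PGroup.PSolvable

/-!
# Central Sylow `2`-intersections in any group: first facts

An element of a Sylow subgroup `S` that is not central in `S` lies in no other Sylow subgroup, so its
centralizer normalises `S`.
-/

set_option autoImplicit false
set_option linter.unusedSectionVars false
set_option linter.style.haveILetI false

namespace CfsgLib.CentGen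

open Subgroup CfsgLib.CentralNonab

universe u

variable {G : Type u} [Group G] [Finite G]

/-- `x` is central in `S`. -/
def CentIn (S : Subgroup G) (x : G) : Prop := ∀ s ∈ S, s * x = x * s

theorem CentIn.mul {S : Subgroup G} {x y : G} (hx : CentIn S x) (hy : CentIn S y) : CentIn S (x * y) :=
  fun s hs => ((show Commute s x from hx s hs).mul_right (show Commute s y from hy s hs)).eq

theorem CentIn.inv {S : Subgroup G} {x : G} (hx : CentIn S x) : CentIn S x⁻¹ :=
  fun s hs => (show Commute s x from hx s hs).inv_right.eq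

/-- A subgroup of `S` not central in it is normalised only inside `N(S)`. -/
theorem normalizer_le (hCI : CI G) (S : Sylow 2 G) {D : Subgroup G} (hD : D ≤ (S : Subgroup G))
    (hnc : ∃ x ∈ D, ¬ CentIn (S : Subgroup G) x) :
    normalizer (D : Set G) ≤ normalizer ((S : Subgroup G) : Set G) := by
  intro g hg
  obtain ⟨x, hx, hx'⟩ := hnc
  refine Sylow.smul_eq_iff_mem_normalizer.1 (sylow_eq hCI (hD hx) ?_ hx')
  rw [Sylow.coe_subgroup_smul, mem_smul_pointwise_iff_exists]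
  exact ⟨g⁻¹ * x * g, hD ((mem_normalizer_iff''.1 hg x).1 hx),
    show g * (g⁻¹ * x * g) * g⁻¹ = x by group⟩

/-- The centralizer of an element not central in `S` normalises `S`. -/
theorem centralizer_le (hCI : CI G) (S : Sylow 2 G) {x : G} (hxS : x ∈ (S : Subgroup G))
    (hx : ¬ CentIn (S : Subgroup G) x) {g : G} (hg : g * x = x * g) :
    g ∈ normalizer ((S : Subgroup G) : Set G) := by
  refine Sylow.smul_eq_iff_mem_normalizer.1 (sylow_eq hCI hxS ?_ hx)
  rw [Sylow.coe_subgroup_smul, mem_smul_pointwise_iff_exists]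
  exact ⟨x, hxS, show g * x * g⁻¹ = x by rw [hg, mul_inv_cancel_right]⟩

/-- The hypothesis passes to normal subgroups. -/
theorem CI.normal (hCI : CI G) (N : Subgroup G) [N.Normal] : CI ↥N := by
  haveI : Fact (Nat.Prime 2) := ⟨Nat.prime_two⟩
  intro S T hST
  obtain ⟨S', hS⟩ := (S.2.map N.subtype).exists_le_sylow
  obtain ⟨T', hT⟩ := (T.2.map N.subtype).exists_le_sylow
  have key : ∀ (A : Sylow 2 ↥N) (A' : Sylow 2 G), (A : Subgroup ↥N).map N.subtype ≤ A' →
      (A' : Subgroup G).comap N.subtype = A := fun A A' hA =>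
    A.3 (A'.2.comap_of_injective _ N.subtype_injective) fun x hx => hA (mem_map_of_mem _ hx)
  have hne : T' ≠ S' := fun e => hST (Sylow.ext (by rw [← key S S' hS, ← key T T' hT, e]))
  refine ⟨S, fun x hx => CfsgLib.CentInt.mem_center_map.2 ⟨hx.1, fun s hs => Subtype.ext ?_⟩⟩
  exact inter_comm hCI hne (hS ⟨x, hx.1, rfl⟩) (hT ⟨x, hx.2, rfl⟩) s (hS ⟨s, hs, rfl⟩)

/-- The hypothesis passes to quotients. -/
theorem CI.quotient (hCI : CI G) (O : Subgroup G) [O.Normal] : CI (G ⧸ O) := by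
  haveI : Fact (Nat.Prime 2) := ⟨Nat.prime_two⟩
  set π := QuotientGroup.mk' O
  have hπ := QuotientGroup.mk'_surjective O
  intro A B hAB
  obtain ⟨S, rfl⟩ := Sylow.mapSurjective_surjective hπ 2 A
  obtain ⟨T, rfl⟩ := Sylow.mapSurjective_surjective hπ 2 B
  refine ⟨S.mapSurjective hπ, ?_⟩
  rintro y ⟨⟨s, hs, rfl⟩, t, ht, e⟩
  -- conjugate `T` by `O` to contain the part of `S`
  set J : Subgroup G := (((S : Subgroup G).map π) ⊓ ((T : Subgroup G).map π)).comap π ⊓ (S : Subgroup G) with hJ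
  have hsJ : s ∈ J := ⟨⟨⟨s, hs, rfl⟩, ⟨t, ht, e⟩⟩, hs⟩
  have hJT : J ≤ O ⊔ (T : Subgroup G) := by
    rintro x ⟨⟨-, t', ht', e'⟩, -⟩
    have : x * t'⁻¹ ∈ O := (QuotientGroup.eq_one_iff _).1 (by
      show π (x * t'⁻¹) = 1
      rw [map_mul, map_inv, e', mul_inv_cancel])
    rw [show x = x * t'⁻¹ * t' by group]
    exact mul_mem (mem_sup_left this) (mem_sup_right ht')
  obtain ⟨T₁, hT₁⟩ := ((S.2.to_le (inf_le_right : J ≤ _)).comap_subtype (K := O ⊔ (T : Subgroup G))).exists_le_sylow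
  have hTle : (T : Subgroup G) ≤ O ⊔ (T : Subgroup G) := le_sup_right
  obtain ⟨g, hg⟩ := MulAction.exists_smul_eq ↥(O ⊔ (T : Subgroup G)) (T.subtype hTle) T₁
  have hgN : ∀ x ∈ J, ∃ w ∈ (T : Subgroup G), (g : G) * w * (g : G)⁻¹ = x := by
    intro x hx
    have h1 : (⟨x, hJT hx⟩ : ↥(O ⊔ (T : Subgroup G))) ∈ (T₁ : Subgroup ↥(O ⊔ (T : Subgroup G))) := hT₁ hx
    rw [← hg, Sylow.coe_subgroup_smul, mem_smul_pointwise_iff_exists] at h1
    obtain ⟨w, hw, hwe⟩ := h1
    exact ⟨w, hw, congrArg Subtype.val hwe⟩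
  obtain ⟨o, ho, t₀, ht₀, hgo⟩ := Subgroup.mem_sup_of_normal_left.1 g.2
  have hne : o • T ≠ S := fun e2 => hAB (Sylow.ext (by
    rw [Sylow.coe_mapSurjective, Sylow.coe_mapSurjective, ← e2]
    ext z
    constructor
    · rintro ⟨a, ha, rfl⟩
      rw [SetLike.mem_coe, Sylow.coe_subgroup_smul, mem_smul_pointwise_iff_exists] at ha
      obtain ⟨w, hw, rfl⟩ := ha
      refine ⟨w, hw, ?_⟩
      show π w = π (o * w * o⁻¹)
      rw [map_mul, map_mul, map_inv, show π o = 1 from (QuotientGroup.eq_one_iff o).2 ho, one_mul, inv_one, mul_one]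
    · rintro ⟨w, hw, rfl⟩
      refine ⟨o * w * o⁻¹, ?_, ?_⟩
      · rw [SetLike.mem_coe, Sylow.coe_subgroup_smul, mem_smul_pointwise_iff_exists]
        exact ⟨w, hw, rfl⟩
      · rw [map_mul, map_mul, map_inv, show π o = 1 from (QuotientGroup.eq_one_iff o).2 ho, one_mul, inv_one,
          mul_one]))
  obtain ⟨w, hw, hwe⟩ := hgN s hsJ
  have hsT : s ∈ ((o • T : Sylow 2 G) : Subgroup G) := by
    rw [Sylow.coe_subgroup_smul, mem_smul_pointwise_iff_exists]
    refine ⟨t₀ * w * t₀⁻¹, mul_mem (mul_mem ht₀ hw) (inv_mem ht₀), ?_⟩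
    show o * (t₀ * w * t₀⁻¹) * o⁻¹ = s
    rw [← hwe, ← hgo]
    group
  refine CfsgLib.CentInt.mem_center_map.2 ⟨⟨s, hs, rfl⟩, ?_⟩
  rintro _ ⟨a, ha, rfl⟩
  rw [← map_mul, ← map_mul, inter_comm hCI hne hs hsT a ha]

/-- Without components a Sylow subgroup is normal, if there is no odd normal subgroup. -/
theorem sylow_le_pCore (hCI : CI G) (hO : Cfsg.pPrimeCore 2 G = ⊥) (hE : Cfsg.layer G = ⊥) (S : Sylow 2 G) :
    (S : Subgroup G) ≤ Cfsg.pCore 2 G := by
  haveI : Fact (Nat.Prime 2) := ⟨Nat.prime_two⟩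
  haveI := CfsgLib.Coprime.pCore_normal' (G := G) 2
  set P := Cfsg.pCore 2 G with hP
  have hPS : ∀ T : Sylow 2 G, P ≤ (T : Subgroup G) := fun T => IsPGroup.le_sylow_of_normal (CfsgLib.Coprime.pCore_isPGroup 2) T
  by_cases hn : (S : Subgroup G).Normal
  · exact CfsgLib.Coprime.le_pCore S.2
  obtain ⟨T, hT⟩ : ∃ T : Sylow 2 G, T ≠ S := by
    by_contra hh
    push Not at hh
    exact hn ⟨fun x hx g => by
      rw [← hh (g • S), Sylow.coe_subgroup_smul, mem_smul_pointwise_iff_exists]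
      exact ⟨x, hx, rfl⟩⟩
  have hcen : ∀ s ∈ (S : Subgroup G), s ∈ centralizer (P : Set G) := fun s hs =>
    mem_centralizer_iff.2 fun x hx => (inter_comm hCI hT (hPS S hx) (hPS T hx) s hs).symm
  have hfit : Cfsg.fittingSubgroup G ≤ P := by
    refine (CfsgLib.Coprime.fitting_eq_iSup_pCore (G := G)).le.trans (iSup_le fun p => ?_)
    by_cases hp2 : (p : ℕ) = 2
    · rw [hp2]
    haveI : Fact (p : ℕ).Prime := ⟨p.2⟩
    haveI := CfsgLib.Coprime.pCore_normal' (G := G) (p : ℕ)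
    refine le_trans ?_ bot_le
    rw [← hO]
    obtain ⟨k, hk⟩ := IsPGroup.iff_card.1 (CfsgLib.Coprime.pCore_isPGroup (G := G) (p : ℕ))
    exact CfsgLib.Coprime.le_pPrimeCore (by
      rw [hk]; exact ((Nat.coprime_primes p.2 Nat.prime_two).2 hp2).pow_left k)
  exact fun s hs => hfit (CfsgLib.Coprime.centralizer_fitting_le_of_layer_eq_bot hE
    (mem_centralizer_iff.2 fun x hx => mem_centralizer_iff.1 (hcen s hs) x (hfit hx)))

end CfsgLib.CentGen
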