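import Cfsg.Agent.Lib.Goldschmidt.RankOne.Main
import Cfsg.Agent.Lib.Fusion.AbelianSylowAut
import Cfsg.Agent.Lib.CIT.Basic

/-!
# A two-element centralizing a Sylow normalizer modulo the Sylow subgroup is inner
-/

set_option autoImplicit false
set_option linter.unusedSectionVars false
set_option linter.style.haveILetI false

namespace CfsgLib.CentGen

open Subgroup CfsgLib.CycInter

universe u

variable {Y : Type u} [Group Y] [Finite Y]

theorem inn_of_mod (hs : IsSimpleGroup Y) (hna : ¬ IsMulCommutative Y) (hF : CfsgLib.Gold.Form Y)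
    (T : Sylow 2 Y) (β : MulAut Y) {k : ℕ} (hk : β ^ 2 ^ k = 1)
    (hT : ∀ t ∈ (T : Subgroup Y), β t ∈ (T : Subgroup Y))
    (hN : ∀ n ∈ normalizer ((T : Subgroup Y) : Set Y), β n * n⁻¹ ∈ (T : Subgroup Y)) :
    ∃ g : Y, β = MulAut.conj g := by
  classical
  haveI := hs
  haveI : Fact (Nat.Prime 2) := ⟨Nat.prime_two⟩
  obtain ⟨τ, hτ⟩ := CfsgLib.Gold.RankOne.hasTData_form hs hF T
  -- `τ` fixes no element of `T`
  have hfree : ∀ w ∈ (T : Subgroup Y), τ * w * τ⁻¹ = w → w = 1 := by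
    intro w hw hfix
    by_contra hw1
    obtain ⟨j, hj⟩ := T.2 ⟨w, hw⟩
    have hj' : w ^ 2 ^ j = 1 := congrArg Subtype.val hj
    obtain ⟨i, hi⟩ : ∃ i, orderOf w = 2 ^ (i + 1) := by
      obtain ⟨i, -, hi⟩ := (Nat.dvd_prime_pow Nat.prime_two).1 (orderOf_dvd_of_pow_eq_one hj')
      rcases i with _ | i
      · exact absurd (orderOf_eq_one_iff.1 (by rw [hi, pow_zero])) hw1
      · exact ⟨i, hi⟩
    set u := w ^ 2 ^ i with hu
    have huu : u * u = 1 := by rw [hu, ← pow_add, ← two_mul, ← pow_succ', ← hi, pow_orderOf_eq_one]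
    have hu1 : u ≠ 1 := fun e => by
      have := Nat.le_of_dvd (by positivity) (orderOf_dvd_of_pow_eq_one (hu ▸ e))
      rw [hi, pow_succ] at this
      have := Nat.one_le_two_pow (n := i)
      omega
    have hcm : ∀ n : ℕ, τ ^ n * u * (τ ^ n)⁻¹ = u := fun n => by
      have h1 : Commute τ u := (show Commute τ w from mul_inv_eq_iff_eq_mul.1 hfix).pow_right _
      rw [(h1.pow_left n).eq, mul_inv_cancel_right]
    obtain ⟨a, ha, b, hb, haa, hbb, ha1, hb1, hab⟩ := hτ.two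
    obtain ⟨n, hn⟩ := hτ.trans u (pow_mem hw _) a ha huu haa hu1 ha1
    obtain ⟨n', hn'⟩ := hτ.trans u (pow_mem hw _) b hb huu hbb hu1 hb1
    exact hab (hn.symm.trans ((hcm n).trans ((hcm n').symm.trans hn')))
  -- adjust `β` to fix `τ`
  obtain ⟨x, hx⟩ : ∃ x : ↥(T : Subgroup Y), (x : Y) * τ * (x : Y)⁻¹ * τ⁻¹ = β τ * τ⁻¹ := by
    let f : ↥(T : Subgroup Y) → ↥(T : Subgroup Y) := fun x => ⟨x * τ * (x : Y)⁻¹ * τ⁻¹, by
      rw [show (x : Y) * τ * (x : Y)⁻¹ * τ⁻¹ = x * (τ * (x : Y)⁻¹ * τ⁻¹) by group]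
      exact mul_mem x.2 ((hτ.normal _).1 (inv_mem x.2))⟩
    have hf : Function.Injective f := fun a b e => by
      have e' : (a : Y) * τ * (a : Y)⁻¹ * τ⁻¹ = b * τ * (b : Y)⁻¹ * τ⁻¹ := congrArg Subtype.val e
      have h1 : τ * ((b : Y)⁻¹ * a) * τ⁻¹ = (b : Y)⁻¹ * a := by
        calc τ * ((b : Y)⁻¹ * a) * τ⁻¹
            = (b : Y)⁻¹ * (b * τ * (b : Y)⁻¹ * τ⁻¹) * τ * a * τ⁻¹ := by group
          _ = (b : Y)⁻¹ * (a * τ * (a : Y)⁻¹ * τ⁻¹) * τ * a * τ⁻¹ := by rw [e']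
          _ = (b : Y)⁻¹ * a := by group
      exact Subtype.ext (eq_of_inv_mul_eq_one (hfree _ (mul_mem (inv_mem b.2) a.2) h1)).symm
    obtain ⟨x, hx⟩ := Finite.surjective_of_injective hf
      ⟨β τ * τ⁻¹, hN τ (mem_normalizer_iff.2 hτ.normal)⟩
    exact ⟨x, congrArg Subtype.val hx⟩
  set γ : MulAut Y := MulAut.conj (x : Y)⁻¹ * β with hγ
  have hγap : ∀ y, γ y = (x : Y)⁻¹ * β y * x := fun y => by
    rw [hγ, MulAut.mul_apply, MulAut.conj_apply, inv_inv]
  have hγτ : γ τ = τ := by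
    rw [hγap, show β τ = β τ * τ⁻¹ * τ by rw [inv_mul_cancel_right], ← hx]
    group
  have hγT : ∀ t ∈ (T : Subgroup Y), γ t ∈ (T : Subgroup Y) := fun t ht => by
    rw [hγap]; exact mul_mem (mul_mem (inv_mem x.2) (hT t ht)) x.2
  obtain ⟨j, hj⟩ : ∃ j, γ ^ 2 ^ j = 1 := by
    have hA : IsPGroup 2 ((T : Subgroup Y).map (MulAut.conj : Y →* MulAut Y)) := T.2.map _
    have hB : IsPGroup 2 (zpowers β) := by
      rintro ⟨_, i, rfl⟩
      refine ⟨k, Subtype.ext ?_⟩
      show (β ^ i) ^ 2 ^ k = 1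
      rw [← zpow_natCast, zpow_comm, zpow_natCast, hk, one_zpow]
    have hR := IsPGroup.to_sup_of_normal_right' hB hA (zpowers_le.2 (mem_normalizer_fintype ?_))
    · obtain ⟨j, hj⟩ := hR ⟨γ, mul_mem (mem_sup_right (mem_map_of_mem _ (inv_mem x.2)))
        (mem_sup_left (mem_zpowers β))⟩
      exact ⟨j, congrArg Subtype.val hj⟩
    · rintro _ ⟨t, ht, rfl⟩
      refine ⟨β t, hT t ht, MulEquiv.ext fun y => ?_⟩
      simp [MulAut.mul_apply, MulAut.inv_def]
  -- `γ` fixes the involutions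
  let Ω : Subgroup Y :=
    { carrier := {y | y ∈ (T : Subgroup Y) ∧ y * y = 1}
      one_mem' := ⟨one_mem _, one_mul 1⟩
      mul_mem' := fun {a b} ha hb => ⟨mul_mem ha.1 hb.1, by
        rw [Commute.mul_mul_mul_comm (show Commute b a from hτ.central a ha.1 ha.2 b hb.1), ha.2, hb.2, one_mul]⟩
      inv_mem' := fun {a} ha => ⟨inv_mem ha.1, by rw [← mul_inv_rev, ha.2, inv_one]⟩ }
  have hfixinv : ∀ v ∈ (T : Subgroup Y), v * v = 1 → γ v = v := by
    letI := Fintype.ofFinite Y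
    let α := {y : Ω // y ≠ 1}
    let σ : Equiv.Perm α := Equiv.ofBijective
      (fun y => ⟨⟨γ y.1.1, hγT _ y.1.2.1, by rw [← map_mul, y.1.2.2, map_one]⟩, fun e => y.2 (Subtype.ext
        (γ.injective ((congrArg Subtype.val e).trans (map_one γ).symm)))⟩)
      (Finite.injective_iff_bijective.1 fun a b e => Subtype.ext (Subtype.ext (γ.injective
        (congrArg (fun w : α => (w.1 : Y)) e))))
    have hσ : ∀ (n : ℕ) (y : α), (((σ ^ n) y).1 : Y) = (γ ^ n) y.1.1 := by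
      intro n
      induction n with
      | zero => intro y; rfl
      | succ n ih =>
        intro y
        rw [pow_succ', Equiv.Perm.mul_apply, pow_succ', MulAut.mul_apply, ← ih]
        rfl
    have hodd : ¬ 2 ∣ Fintype.card α := by
      intro h2
      obtain ⟨m, hm⟩ := IsPGroup.iff_card.1 (T.2.to_le (show Ω ≤ (T : Subgroup Y) from fun y hy => hy.1))
      rw [← Nat.card_eq_fintype_card] at h2
      have e : Nat.card α + 1 = Nat.card Ω := by
        rw [← Finite.card_option]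
        exact Nat.card_congr (Equiv.optionSubtypeNe (1 : Ω))
      have hm0 : m ≠ 0 := fun e0 => by
        obtain ⟨a, ha, -, -, haa, -, ha1, -, -⟩ := hτ.two
        rw [e0, pow_zero, Subgroup.card_eq_one] at hm
        exact ha1 ((mem_bot).1 (hm ▸ (⟨ha, haa⟩ : a ∈ Ω)))
      have : 2 ∣ Nat.card Ω := hm ▸ dvd_pow_self 2 hm0
      omega
    obtain ⟨⟨⟨v₀, hv₀T, hv₀₀⟩, hv₀1⟩, hv₀⟩ := Equiv.Perm.exists_fixed_point_of_prime (n := j) hodd (σ := σ)
      (Equiv.ext fun y => Subtype.ext (Subtype.ext (by rw [hσ, hj]; rfl)))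
    have hv₀' : γ v₀ = v₀ := congrArg (fun w : α => (w.1 : Y)) hv₀
    intro v hv hvv
    by_cases hv1 : v = 1
    · rw [hv1, map_one]
    obtain ⟨n, hn⟩ := hτ.trans v₀ hv₀T v hv hv₀₀ hvv (fun e => hv₀1 (Subtype.ext e)) hv1
    rw [← hn, map_mul, map_mul, map_inv, map_pow, hγτ, hv₀']
  -- so `γ` fixes `T`
  have hpow : ∀ n : ℕ, (∀ t ∈ (T : Subgroup Y), (γ ^ n) t ∈ (T : Subgroup Y)) ∧ (γ ^ n) τ = τ ∧
      ∀ v ∈ (T : Subgroup Y), v * v = 1 → (γ ^ n) v = v := by
    intro n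
    induction n with
    | zero => exact ⟨fun t ht => by simpa using ht, rfl, fun v _ _ => rfl⟩
    | succ n ih =>
      obtain ⟨i1, i2, i3⟩ := ih
      refine ⟨fun t ht => ?_, ?_, fun v hv hvv => ?_⟩ <;> rw [pow_succ', MulAut.mul_apply]
      · exact hγT _ (i1 t ht)
      · rw [i2, hγτ]
      · rw [i3 v hv hvv, hfixinv v hv hvv]
  have hall : ∀ d, d ≤ j → ∀ t ∈ (T : Subgroup Y), (γ ^ 2 ^ (j - d)) t = t := by
    intro d
    induction d with
    | zero => intro _ t _; rw [Nat.sub_zero, hj, MulAut.one_apply]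
    | succ d ih =>
      intro hd t ht
      obtain ⟨h1, h2, h3⟩ := hpow (2 ^ (j - (d + 1)))
      set δ := γ ^ 2 ^ (j - (d + 1)) with hδ
      have hsq : δ * δ = γ ^ 2 ^ (j - d) := by
        rw [hδ, ← pow_add, ← two_mul, ← pow_succ', show j - (d + 1) + 1 = j - d by omega]
      let α : ↥(T : Subgroup Y) ≃* ↥(T : Subgroup Y) := MulEquiv.ofBijective
        (MonoidHom.mk' (fun t : ↥(T : Subgroup Y) => (⟨δ t, h1 t t.2⟩ : ↥(T : Subgroup Y)))
          fun a b => Subtype.ext (map_mul δ (a : Y) b))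
        (Finite.injective_iff_bijective.1 fun a b e => Subtype.ext (δ.injective (congrArg Subtype.val e)))
      have hα : ∀ t : ↥(T : Subgroup Y), (α t : Y) = δ t := fun t => rfl
      have h := hτ.rigid α (fun y => Subtype.ext (by
          rw [hα, hα, ← MulAut.mul_apply, hsq, ih (by omega) y y.2]))
        (fun z hz => Subtype.ext (by rw [hα]; exact h3 _ z.2 (congrArg Subtype.val hz)))
        (fun a b hab => by rw [hα, hα, hab, map_mul, map_mul, map_inv, h2]) ⟨t, ht⟩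
      exact (hα ⟨t, ht⟩).symm.trans (congrArg Subtype.val h)
  have hfixT : ∀ t ∈ (T : Subgroup Y), γ t = t := fun t ht => by
    simpa using hall j le_rfl t ht
  suffices h : ∃ g : Y, γ = MulAut.conj g by
    obtain ⟨g, hg⟩ := h
    refine ⟨x * g, ?_⟩
    rw [map_mul, ← hg, hγ, ← mul_assoc, ← map_mul, mul_inv_cancel, map_one, one_mul]
  rcases hF with hc | hi
  · have hab : IsMulCommutative (T : Subgroup Y) := (CfsgLib.Walter.Rank.sylow_isElementary hs hc T).1
    have hZ : center Y = ⊥ := (inferInstance : (center Y).Normal).eq_bot_or_eq_top.resolve_right fun e =>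
      hna ⟨⟨fun a b => (mem_center_iff.1 (e ▸ Subgroup.mem_top b : b ∈ center Y) a)⟩⟩
    have hcore : Cfsg.pPrimeCore 2 Y = ⊥ := by
      haveI := CfsgLib.Coprime.pPrimeCore_characteristic (G := Y) 2
      refine (inferInstance : (Cfsg.pPrimeCore 2 Y).Normal).eq_bot_or_eq_top.resolve_right fun e => ?_
      have := CfsgLib.Coprime.pPrimeCore_not_dvd (G := Y) Nat.prime_two
      rw [e, card_top] at this
      exact this (CfsgLib.CIT.two_dvd_card_of_simple hna)
    obtain ⟨i, -, hi⟩ := (Nat.dvd_prime_pow Nat.prime_two).1 (orderOf_dvd_of_pow_eq_one hj)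
    obtain ⟨g, hg⟩ := CfsgLib.Fusion.isInner_of_fixes_abelian_sylow hZ hcore T hab γ hi hfixT
    exact ⟨g, MulEquiv.ext fun y => by rw [hg y]; rfl⟩
  · obtain ⟨g, -, hg⟩ := CfsgLib.Gold.RankOne.inner_iso hs hi T γ (fun v hv _ => hfixT v hv)
      fun t ht => by rw [hfixT t ht, mul_inv_cancel]; exact ⟨one_mem _, one_mul 1⟩
    exact ⟨g, hg⟩

end CfsgLib.CentGen
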