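import Cfsg.Agent.Lib.Invol.CentralInter.General.Basic
import Cfsg.Agent.Lib.Invol.CentralInter.General.Torus
import Cfsg.Agent.Lib.Invol.CentralNonab.Main
import Cfsg.Agent.Lib.Walter.Main
import Cfsg.Agent.Lib.Fusion.Abelian
import Cfsg.Agent.Lib.LocalStructure.Kieler

/-!
# Central Sylow `2`-intersections, no odd normal subgroup: one component

If a Sylow subgroup `S` is neither normal nor abelian then there is exactly one component `K`, and
`S` is the product of `S ⊓ K` with `O₂`, which is central in `S`.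
-/

set_option autoImplicit false
set_option linter.unusedSectionVars false
set_option linter.style.haveILetI false

namespace CfsgLib.CentGen

open Subgroup CfsgLib.CentralNonab
open scoped commutatorElement

universe u

variable {G : Type u} [Group G] [Finite G]

theorem exists_sylow_trace (S : Sylow 2 G) {K : Subgroup G} (hK : K.IsSubnormal) :
    ∃ T : Sylow 2 K, (T : Subgroup K) = (S : Subgroup G).subgroupOf K := by
  haveI : Fact (Nat.Prime 2) := ⟨Nat.prime_two⟩
  obtain ⟨T, hT⟩ := CfsgLib.LS.sylow_inf_subnormal S hK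
  refine ⟨T, Subgroup.map_injective K.subtype_injective ?_⟩
  rw [hT, subgroupOf_map_subtype]

theorem normalizer_isSolvable (S : Sylow 2 G) : Group.IsSolvable ↥(normalizer ((S : Subgroup G) : Set G)) := by
  haveI : Fact (Nat.Prime 2) := ⟨Nat.prime_two⟩
  set N := normalizer ((S : Subgroup G) : Set G)
  haveI : ((S : Subgroup G).subgroupOf N).Normal := normal_subgroupOf_of_le_normalizer le_rfl
  haveI : Group.IsNilpotent ↥((S : Subgroup G).subgroupOf N) := (S.2.comap_subtype).isNilpotent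
  haveI : Group.IsSolvable (↥N ⧸ (S : Subgroup G).subgroupOf N) := Cfsg.Agent.S0205.result (by
    rw [← index_eq_card, ← Nat.not_even_iff_odd, even_iff_two_dvd]
    exact fun e => S.not_dvd_index (e.trans (relIndex_dvd_index_of_le (le_normalizer (H := (S : Subgroup G))))))
  exact Group.isSolvable_of_ker_le_range ((S : Subgroup G).subgroupOf N).subtype
    (QuotientGroup.mk' ((S : Subgroup G).subgroupOf N)) (by rw [QuotientGroup.ker_mk', range_subtype])

/-- An element of `S` centralizing a component is central in `S`. -/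
theorem centIn_of_centralizes (hCI : CI G) (S : Sylow 2 G) {K : Subgroup G} (hK : Cfsg.IsComponent K) {x : G}
    (hx : x ∈ (S : Subgroup G)) (hc : ∀ k ∈ K, k * x = x * k) : CentIn (S : Subgroup G) x := by
  by_contra hn
  exact CfsgLib.Coprime.not_le_of_isComponent_of_isSolvable hK (normalizer_isSolvable S)
    fun k hk => centralizer_le hCI S hx hn (hc k hk)

/-- The Sylow subgroups are not central in a component. -/
theorem exists_noncentral_center {K : Subgroup G} (hK : Cfsg.IsComponent K) (T : Sylow 2 K) :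
    ∃ x ∈ (T : Subgroup K), x ∉ center K := by
  haveI : Fact (Nat.Prime 2) := ⟨Nat.prime_two⟩
  by_contra hh
  push Not at hh
  haveI := hK.2.2
  haveI := hK.2.1
  have hodd : Odd (Nat.card (K ⧸ center K)) := by
    rw [← index_eq_card, ← Nat.not_even_iff_odd, even_iff_two_dvd]
    exact fun e => T.not_dvd_index (e.trans (index_dvd_of_le (show (T : Subgroup K) ≤ center K from hh)))
  haveI : Group.IsSolvable (K ⧸ center K) := Cfsg.Agent.S0205.result hodd
  haveI : Group.IsPerfect (K ⧸ center K) :=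
    Group.IsPerfect.ofSurjective (f := QuotientGroup.mk' (center K)) (QuotientGroup.mk'_surjective _)
  haveI := (QuotientGroup.mk'_surjective (center K)).nontrivial
  exact Group.IsPerfect.not_isSolvable (K ⧸ center K) inferInstance

/-- Automorphisms induced on the simple quotient. -/
theorem exists_aut {K : Subgroup G} {s : G} (hs : s ∈ normalizer (K : Set G)) :
    ∃ β : MulAut (K ⧸ center K), ∀ k : K,
      β (QuotientGroup.mk' (center K) k) =
        QuotientGroup.mk' (center K) ⟨s * k * s⁻¹, (mem_normalizer_iff.1 hs k).1 k.2⟩ ∧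
      ∀ n : ℕ, (β ^ n) (QuotientGroup.mk' (center K) k) =
        QuotientGroup.mk' (center K) ⟨s ^ n * k * (s ^ n)⁻¹, (mem_normalizer_iff.1 (pow_mem hs n) k).1 k.2⟩ := by
  let c : MulAut K :=
    { toFun := fun k => ⟨s * k * s⁻¹, (mem_normalizer_iff.1 hs k).1 k.2⟩
      invFun := fun k => ⟨s⁻¹ * k * s, by simpa using (mem_normalizer_iff''.1 hs k).1 k.2⟩
      left_inv := fun k => Subtype.ext (by show s⁻¹ * (s * k * s⁻¹) * s = k; group)
      right_inv := fun k => Subtype.ext (by show s * (s⁻¹ * k * s) * s⁻¹ = k; group)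
      map_mul' := fun a b => Subtype.ext (by show s * (a * b : G) * s⁻¹ = s * a * s⁻¹ * (s * b * s⁻¹); group) }
  let β : MulAut (K ⧸ center K) := QuotientGroup.congr (center K) (center K) c
    (CfsgLib.Coprime.map_center_equiv c)
  have h1 : ∀ k : K, β (QuotientGroup.mk' (center K) k) = QuotientGroup.mk' (center K) (c k) := fun k =>
    QuotientGroup.congr_mk' _ _ _ _ k
  refine ⟨β, fun k => ⟨h1 k, fun n => ?_⟩⟩
  induction n with
  | zero => rw [pow_zero, MulAut.one_apply]; congr 1; exact Subtype.ext (by group)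
  | succ n ih =>
    rw [pow_succ', MulAut.mul_apply, ih, h1]
    congr 1
    exact Subtype.ext (by show s * (s ^ n * k * (s ^ n)⁻¹) * s⁻¹ = s ^ (n + 1) * k * (s ^ (n + 1))⁻¹; rw [pow_succ']; group)

/-- An inner two-element of a component: it is a product with an element centralizing the component. -/
theorem exists_mul_of_inner (hCI : CI G) (S : Sylow 2 G) {K : Subgroup G} (hK : Cfsg.IsComponent K)
    {s : G} (hs : s ∈ (S : Subgroup G)) (hsN : s ∈ normalizer (K : Set G)) {T : Sylow 2 K}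
    (hT : ∀ k : K, k ∈ (T : Subgroup K) ↔ (k : G) ∈ (S : Subgroup G)) (hZ : ∀ z ∈ center K, z ∈ (T : Subgroup K))
    {g : K ⧸ center K} {β : MulAut (K ⧸ center K)}
    (hβ : ∀ k : K, β (QuotientGroup.mk' (center K) k) =
      QuotientGroup.mk' (center K) ⟨s * k * s⁻¹, (mem_normalizer_iff.1 hsN k).1 k.2⟩)
    (hg : β = MulAut.conj g) :
    ∃ k ∈ K, k ∈ (S : Subgroup G) ∧ CentIn (S : Subgroup G) (k⁻¹ * s) ∧ ∀ a ∈ K, a * (k⁻¹ * s) = k⁻¹ * s * a := by
  haveI : Fact (Nat.Prime 2) := ⟨Nat.prime_two⟩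
  haveI := hK.2.2
  set π := QuotientGroup.mk' (center K) with hπdef
  have hπ := QuotientGroup.mk'_surjective (center K)
  -- `g` lies in the Sylow subgroup
  set T' := T.mapSurjective hπ with hT'
  have hTmem : ∀ k : K, π k ∈ (T' : Subgroup (K ⧸ center K)) ↔ k ∈ (T : Subgroup K) := fun k => by
    rw [hT', Sylow.coe_mapSurjective]
    refine ⟨?_, fun hk => mem_map_of_mem _ hk⟩
    rintro ⟨k', hk', e⟩
    have := hZ _ (QuotientGroup.eq.1 e)
    simpa using mul_mem hk' this
  have hgN : g ∈ normalizer ((T' : Subgroup (K ⧸ center K)) : Set (K ⧸ center K)) := by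
    refine mem_normalizer_fintype fun y hy => ?_
    obtain ⟨k, rfl⟩ := hπ y
    show g * π k * g⁻¹ ∈ (T' : Subgroup (K ⧸ center K))
    rw [← MulAut.conj_apply, ← hg, hβ, hTmem, hT]
    exact mul_mem (mul_mem hs ((hT k).1 ((hTmem k).1 hy))) (inv_mem hs)
  have hgk : ∃ n, g ^ 2 ^ n = 1 := by
    obtain ⟨n, hn⟩ := S.2 ⟨s, hs⟩
    have hn' : s ^ 2 ^ n = 1 := congrArg Subtype.val hn
    refine ⟨n, ?_⟩
    obtain ⟨β₀, hβ₀⟩ := exists_aut hsN
    have e : β₀ = β := MulEquiv.ext fun y => by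
      obtain ⟨k, rfl⟩ := hπ y
      rw [hβ, ← (hβ₀ k).1]
    have h1 : MulAut.conj (g ^ 2 ^ n) = 1 := by
      rw [map_pow, ← hg, ← e]
      refine MulEquiv.ext fun y => ?_
      obtain ⟨k, rfl⟩ := hπ y
      rw [(hβ₀ k).2, MulAut.one_apply]
      exact congrArg π (Subtype.ext (by show s ^ 2 ^ n * k * (s ^ 2 ^ n)⁻¹ = k; rw [hn']; group))
    have h2 : g ^ 2 ^ n ∈ center (K ⧸ center K) := mem_center_iff.2 fun y => by
      have : g ^ 2 ^ n * y * (g ^ 2 ^ n)⁻¹ = y := DFunLike.congr_fun h1 y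
      exact (mul_inv_eq_iff_eq_mul.1 this).symm
    rcases (inferInstance : (center (K ⧸ center K)).Normal).eq_bot_or_eq_top with e1 | e1
    · rwa [e1, mem_bot] at h2
    · exfalso
      haveI := hK.2.1
      haveI : Group.IsPerfect (K ⧸ center K) :=
        Group.IsPerfect.ofSurjective (f := QuotientGroup.mk' (center K)) hπ
      refine Group.IsPerfect.not_isSolvable (K ⧸ center K) (Group.isSolvable_of_comm fun a b => ?_)
      exact mem_center_iff.1 (e1 ▸ Subgroup.mem_top b : b ∈ center (K ⧸ center K)) a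
  obtain ⟨n, hn⟩ := hgk
  have hgT : g ∈ (T' : Subgroup (K ⧸ center K)) := CfsgLib.CentInt.mem_sylow_of_normalizer (k := n) hgN hn
  obtain ⟨k, rfl⟩ := hπ g
  have hkS : (k : G) ∈ (S : Subgroup G) := (hT k).1 ((hTmem k).1 hgT)
  -- `k⁻¹ s` acts trivially on `K` modulo the centre, so trivially
  set w := (k : G)⁻¹ * s with hw
  have hwN : w ∈ normalizer (K : Set G) := mul_mem (inv_mem (le_normalizer k.2)) hsN
  have hmod : ∀ a : K, π ⟨w * a * w⁻¹, (mem_normalizer_iff.1 hwN a).1 a.2⟩ = π a := fun a => by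
    have h1 := hβ a
    rw [hg, MulAut.conj_apply] at h1
    rw [show (⟨w * a * w⁻¹, (mem_normalizer_iff.1 hwN a).1 a.2⟩ : K) =
      k⁻¹ * ⟨s * a * s⁻¹, (mem_normalizer_iff.1 hsN a).1 a.2⟩ * k from Subtype.ext (by
        show w * a * w⁻¹ = (k : G)⁻¹ * (s * a * s⁻¹) * k
        rw [hw]; group), map_mul, map_mul, map_inv, ← h1]
    simp only [hπdef]
    group
  let f : K →* K :=
    MonoidHom.mk' (fun a => a⁻¹ * ⟨w * a * w⁻¹, (mem_normalizer_iff.1 hwN a).1 a.2⟩) fun a b => by
      have hz : a⁻¹ * ⟨w * a * w⁻¹, (mem_normalizer_iff.1 hwN a).1 a.2⟩ ∈ center K :=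
        QuotientGroup.eq.1 (hmod a).symm
      set z := a⁻¹ * (⟨w * a * w⁻¹, (mem_normalizer_iff.1 hwN a).1 a.2⟩ : K) with hz'
      rw [show (⟨w * (a * b : K) * w⁻¹, (mem_normalizer_iff.1 hwN _).1 (a * b).2⟩ : K) =
        a * z * ⟨w * b * w⁻¹, (mem_normalizer_iff.1 hwN b).1 b.2⟩ from Subtype.ext (by
          show w * ((a : G) * b) * w⁻¹ = (a : G) * ((a : G)⁻¹ * (w * a * w⁻¹)) * (w * b * w⁻¹)
          group)]
      calc (a * b)⁻¹ * (a * z * ⟨w * b * w⁻¹, _⟩) = b⁻¹ * z * ⟨w * b * w⁻¹, _⟩ := by group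
        _ = z * (b⁻¹ * ⟨w * b * w⁻¹, _⟩) := by rw [mem_center_iff.1 hz b⁻¹, mul_assoc]
  have hf : ∀ a, f a = 1 := by
    haveI := hK.2.1
    have hle : f.range ≤ center K := by
      rintro _ ⟨a, rfl⟩
      exact QuotientGroup.eq.1 (hmod a).symm
    intro a
    have ha : a ∈ f.ker := by
      have hsub : commutator K ≤ f.ker := by
        rw [_root_.commutator_def, commutator_le]
        intro x _ y _
        rw [MonoidHom.mem_ker, map_commutatorElement, commutatorElement_eq_one_iff_mul_comm]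
        exact mem_center_iff.1 (hle ⟨y, rfl⟩) _
      exact hsub (Group.IsPerfect.commutator_eq_top (G := K) ▸ mem_top a)
    exact ha
  have hcomm : ∀ a ∈ K, a * w = w * a := fun a ha => by
    have h1 : (a : G) = w * a * w⁻¹ := congrArg Subtype.val (inv_mul_eq_one.1 (hf ⟨a, ha⟩))
    conv_lhs => rw [h1]
    rw [inv_mul_cancel_right]
  exact ⟨k, k.2, hkS, centIn_of_centralizes hCI S hK (mul_mem (inv_mem hkS) hs) hcomm, hcomm⟩

/-- A Sylow subgroup of a component inside `S`, containing the centre. -/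
theorem exists_trace (hO : Cfsg.pPrimeCore 2 G = ⊥) (S : Sylow 2 G) {K : Subgroup G} (hK : Cfsg.IsComponent K) :
    ∃ T : Sylow 2 K, (∀ k : K, k ∈ (T : Subgroup K) ↔ (k : G) ∈ (S : Subgroup G)) ∧
      ∀ z ∈ center K, z ∈ (T : Subgroup K) := by
  haveI : Fact (Nat.Prime 2) := ⟨Nat.prime_two⟩
  obtain ⟨T, hT⟩ : ∃ T : Sylow 2 K, (T : Subgroup K) = (S : Subgroup G).subgroupOf K :=
    exists_sylow_trace S hK.1
  have hmem : ∀ k : K, k ∈ (T : Subgroup K) ↔ (k : G) ∈ (S : Subgroup G) := fun k => by rw [hT]; rfl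
  refine ⟨T, hmem, fun z hz => ?_⟩
  set Z := (center K).map K.subtype with hZdef
  have hZn : Z.IsSubnormal := (inferInstance : (center K).Normal).isSubnormal.trans' hK.1
  have hZc : Group.IsNilpotent ↥Z := by
    haveI : IsMulCommutative ↥Z := ⟨⟨by
      rintro ⟨_, a, ha, rfl⟩ ⟨_, b, hb, rfl⟩
      exact Subtype.ext (show (a : G) * b = b * a from congrArg Subtype.val (mem_center_iff.1 hb a))⟩⟩
    letI : CommGroup ↥Z := { (inferInstance : Group ↥Z) with mul_comm := mul_comm' }
    infer_instance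
  have hle : Z ≤ Cfsg.pCore 2 G := by
    refine (CfsgLib.Coprime.le_fitting_of_isSubnormal hZn hZc).trans
      ((CfsgLib.Coprime.fitting_eq_iSup_pCore (G := G)).le.trans (iSup_le fun p => ?_))
    by_cases hp2 : (p : ℕ) = 2
    · rw [hp2]
    haveI : Fact (p : ℕ).Prime := ⟨p.2⟩
    haveI := CfsgLib.Coprime.pCore_normal' (G := G) (p : ℕ)
    refine le_trans ?_ bot_le
    rw [← hO]
    obtain ⟨k, hk⟩ := IsPGroup.iff_card.1 (CfsgLib.Coprime.pCore_isPGroup (G := G) (p : ℕ))
    exact CfsgLib.Coprime.le_pPrimeCore (by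
      rw [hk]; exact ((Nat.coprime_primes p.2 Nat.prime_two).2 hp2).pow_left k)
  haveI := CfsgLib.Coprime.pCore_normal' (G := G) 2
  exact (hmem z).2 (IsPGroup.le_sylow_of_normal (CfsgLib.Coprime.pCore_isPGroup 2) S (hle (mem_map_of_mem _ hz)))

/-- If `S` meets a component in a central subgroup then `S` is abelian. -/
theorem comm_of_central_trace (hCI : CI G) (hO : Cfsg.pPrimeCore 2 G = ⊥) (S : Sylow 2 G) {K : Subgroup G}
    (hK : Cfsg.IsComponent K) (hc : ∀ x ∈ (S : Subgroup G), x ∈ K → CentIn (S : Subgroup G) x) :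
    IsMulCommutative (S : Subgroup G) := by
  haveI : Fact (Nat.Prime 2) := ⟨Nat.prime_two⟩
  haveI := hK.2.2
  obtain ⟨T, hT, hZ⟩ := exists_trace hO S hK
  set π := QuotientGroup.mk' (center K)
  have hπ := QuotientGroup.mk'_surjective (center K)
  have hcent : ∀ s ∈ (S : Subgroup G), CentIn (S : Subgroup G) s := by
    intro s hs
    -- `s` normalises `K`
    have hsN : s ∈ normalizer (K : Set G) := by
      by_contra hn
      set K' := K.map (MulAut.conj s).toMonoidHom
      have hK' : Cfsg.IsComponent K' := CfsgLib.Coprime.isComponent_map_equiv (MulAut.conj s) hK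
      have hne : K ≠ K' := fun e => hn (mem_normalizer_fintype fun a ha => by
        show s * a * s⁻¹ ∈ K
        rw [e]
        exact ⟨a, ha, rfl⟩)
      obtain ⟨x, hxT, hxZ⟩ := exists_noncentral_center hK T
      refine hxZ (mem_center_iff.2 fun a => Subtype.ext ?_)
      have hxS := (hT x).1 hxT
      have h1 : s * (x : G) * s⁻¹ = x := by rw [hc x hxS x.2 s hs, mul_inv_cancel_right]
      have h2 : (x : G) ∈ K' := ⟨x, x.2, h1⟩
      exact (CfsgLib.Coprime.commutator_eq_bot_iff_forall.1 (CfsgLib.Coprime.components_commute hK hK' hne) a a.2 _ h2)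
    obtain ⟨β, hβ⟩ := exists_aut hsN
    have hab : IsMulCommutative (T.mapSurjective hπ : Sylow 2 (K ⧸ center K)) := ⟨⟨by
      rintro ⟨_, a, ha, rfl⟩ ⟨_, b, hb, rfl⟩
      refine Subtype.ext ?_
      show π a * π b = π b * π a
      rw [← map_mul, ← map_mul]
      exact congrArg π (Subtype.ext (hc b ((hT b).1 hb) b.2 a ((hT a).1 ha)))⟩⟩
    have hna : ¬ IsMulCommutative (K ⧸ center K) := fun e => by
      haveI := hK.2.1
      haveI : Group.IsPerfect (K ⧸ center K) := Group.IsPerfect.ofSurjective (f := π) hπ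
      haveI := hπ.nontrivial
      exact Group.IsPerfect.not_isSolvable (K ⧸ center K) (Group.isSolvable_of_comm fun a b => mul_comm' a b)
    have hcen : center (K ⧸ center K) = ⊥ :=
      (inferInstance : (center (K ⧸ center K)).Normal).eq_bot_or_eq_top.resolve_right fun e =>
        hna ⟨⟨fun a b => (mem_center_iff.1 (e ▸ Subgroup.mem_top b : b ∈ center (K ⧸ center K)) a)⟩⟩
    have hcore : Cfsg.pPrimeCore 2 (K ⧸ center K) = ⊥ := by
      haveI := CfsgLib.Coprime.pPrimeCore_characteristic (G := K ⧸ center K) 2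
      refine (inferInstance : (Cfsg.pPrimeCore 2 (K ⧸ center K)).Normal).eq_bot_or_eq_top.resolve_right fun e => ?_
      have := CfsgLib.Coprime.pPrimeCore_not_dvd (G := K ⧸ center K) Nat.prime_two
      rw [e, card_top] at this
      exact this (CfsgLib.CIT.two_dvd_card_of_simple hna)
    obtain ⟨n, hn⟩ := S.2 ⟨s, hs⟩
    have hpow : β ^ 2 ^ n = 1 := MulEquiv.ext fun y => by
      obtain ⟨k, rfl⟩ := hπ y
      rw [(hβ k).2, MulAut.one_apply]
      exact congrArg π (Subtype.ext (by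
        show s ^ 2 ^ n * k * (s ^ 2 ^ n)⁻¹ = k
        rw [show s ^ 2 ^ n = 1 from congrArg Subtype.val hn]; group))
    obtain ⟨i, -, hi⟩ := (Nat.dvd_prime_pow Nat.prime_two).1 (orderOf_dvd_of_pow_eq_one hpow)
    obtain ⟨g, hg⟩ := CfsgLib.Fusion.isInner_of_fixes_abelian_sylow hcen hcore (T.mapSurjective hπ) hab β hi (by
      rintro _ ⟨k, hk, rfl⟩
      rw [(hβ k).1]
      exact congrArg π (Subtype.ext (by
        show s * k * s⁻¹ = k
        rw [hc k ((hT k).1 hk) k.2 s hs, mul_inv_cancel_right])))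
    obtain ⟨k, hk, hkS, hw, -⟩ := exists_mul_of_inner hCI S hK hs hsN hT hZ (fun a => (hβ a).1)
      (g := g) (MulEquiv.ext fun y => by rw [hg y]; rfl)
    have := (hc k hkS hk).mul hw
    rwa [mul_inv_cancel_left] at this
  exact ⟨⟨fun a b => Subtype.ext (hcent b b.2 a a.2)⟩⟩

/-- A nonabelian Sylow subgroup that is not normal: the component. -/
structure One (S : Sylow 2 G) (K : Subgroup G) : Prop where
  ci : CI G
  core : Cfsg.pPrimeCore 2 G = ⊥
  comp : Cfsg.IsComponent K
  normal : K.Normal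
  noncentral : ∃ x ∈ (S : Subgroup G), x ∈ K ∧ ¬ CentIn (S : Subgroup G) x
  centralizer_le : (S : Subgroup G) ⊓ centralizer (K : Set G) ≤ Cfsg.pCore 2 G

theorem exists_one (hCI : CI G) (hO : Cfsg.pPrimeCore 2 G = ⊥) (S : Sylow 2 G)
    (hna : ¬ IsMulCommutative (S : Subgroup G)) (hnn : ¬ (S : Subgroup G) ≤ Cfsg.pCore 2 G) :
    ∃ K, One S K := by
  haveI : Fact (Nat.Prime 2) := ⟨Nat.prime_two⟩
  obtain ⟨K, hK⟩ : ∃ K : Subgroup G, Cfsg.IsComponent K := by
    by_contra hh
    push Not at hh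
    exact hnn (sylow_le_pCore hCI hO (le_bot_iff.1 (sSup_le fun K hK => absurd hK (hh K))) S)
  have hnc : ∀ L : Subgroup G, Cfsg.IsComponent L →
      ∃ x ∈ (S : Subgroup G), x ∈ L ∧ ¬ CentIn (S : Subgroup G) x := fun L hL => by
    by_contra hh
    push Not at hh
    exact hna (comm_of_central_trace hCI hO S hL hh)
  have huniq : ∀ L : Subgroup G, Cfsg.IsComponent L → L = K := fun L hL => by
    by_contra hne
    obtain ⟨x, hxS, hxL, hxn⟩ := hnc L hL
    exact hxn (centIn_of_centralizes hCI S hK hxS fun k hk =>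
      CfsgLib.Coprime.commutator_eq_bot_iff_forall.1 (CfsgLib.Coprime.components_commute hK hL (Ne.symm hne)) k hk x hxL)
  have hKn : K.Normal := ⟨fun a ha g => by
    rw [← huniq _ (CfsgLib.Coprime.isComponent_map_equiv (MulAut.conj g) hK)]
    exact ⟨a, ha, rfl⟩⟩
  refine ⟨K, hCI, hO, hK, hKn, hnc K hK, ?_⟩
  haveI := hKn
  set C := centralizer (K : Set G) with hC
  haveI : C.Normal := inferInstance
  have hOC : Cfsg.pPrimeCore 2 ↥C = ⊥ := by
    have h := CfsgLib.Coprime.pPrimeCore_map_subtype_eq (G := G) Nat.prime_two C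
    rw [hO, bot_inf_eq] at h
    exact (map_eq_bot_iff_of_injective _ C.subtype_injective).1 h
  have hEC : Cfsg.layer ↥C = ⊥ := le_bot_iff.1 (sSup_le fun L hL => by
    exfalso
    have hL' := (CfsgLib.Coprime.isComponent_map_subtype_iff (inferInstance : C.Normal).isSubnormal L).2 hL
    have hKC : K ≤ C := huniq _ hL' ▸ map_subtype_le L
    refine CfsgLib.Coprime.not_isSolvable_of_isComponent hK (Group.isSolvable_of_comm fun a b => Subtype.ext ?_)
    exact (mem_centralizer_iff.1 (hKC b.2) a a.2))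
  obtain ⟨T, hT⟩ := exists_sylow_trace S (inferInstance : C.Normal).isSubnormal
  have hTC := sylow_le_pCore (CfsgLib.CentGen.CI.normal hCI C) hOC hEC T
  have hmap : (Cfsg.pCore 2 ↥C).map C.subtype ≤ Cfsg.pCore 2 G := by
    rw [CfsgLib.Coprime.pCore_map_subtype_eq 2 C]; exact inf_le_left
  rintro x ⟨hxS, hxC⟩
  exact hmap ⟨⟨x, hxC⟩, hTC (by rw [hT]; exact hxS), rfl⟩

/-- The Sylow subgroup is the product of its part in the component and `O₂`. -/
theorem One.exists_mul {S : Sylow 2 G} {K : Subgroup G} (h : One S K) {s : G} (hs : s ∈ (S : Subgroup G)) :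
    ∃ k ∈ K, k ∈ (S : Subgroup G) ∧ k⁻¹ * s ∈ Cfsg.pCore 2 G := by
  haveI : Fact (Nat.Prime 2) := ⟨Nat.prime_two⟩
  have hK := h.comp
  haveI := hK.2.2
  haveI := h.normal
  obtain ⟨T, hT, hZ⟩ := exists_trace h.core S hK
  set π := QuotientGroup.mk' (center K)
  have hπ := QuotientGroup.mk'_surjective (center K)
  set T' := T.mapSurjective hπ
  have hna : ¬ IsMulCommutative (K ⧸ center K) := fun e => by
    haveI := hK.2.1
    haveI : Group.IsPerfect (K ⧸ center K) := Group.IsPerfect.ofSurjective (f := π) hπ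
    haveI := hπ.nontrivial
    exact Group.IsPerfect.not_isSolvable (K ⧸ center K) (Group.isSolvable_of_comm fun a b => mul_comm' a b)
  have hCIY : CI (K ⧸ center K) := CfsgLib.CentGen.CI.quotient (CfsgLib.CentGen.CI.normal h.ci K) (center K)
  have hF : CfsgLib.Gold.Form (K ⧸ center K) := by
    by_cases hab : IsMulCommutative (T' : Subgroup (K ⧸ center K))
    · exact Or.inl (CfsgLib.Walter.classified _ hK.2.2 hna (CfsgLib.Walter.abTwo_of_sylow T' hab))
    rcases CfsgLib.CentralNonab.classify hCIY hna T' hab with hsz | ⟨n, F, iF, iF', hn, hc, he⟩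
    · exact Or.inr (Or.inr (Or.inl hsz))
    · exact Or.inr (Or.inr (Or.inr ⟨F, iF, iF', n, hn, by
        rw [hc, ← pow_mul, show (4 : ℕ) = 2 ^ 2 from rfl, ← pow_mul, mul_comm], he⟩))
  have hsN : s ∈ normalizer (K : Set G) := normalizer_eq_top (H := K) ▸ mem_top s
  obtain ⟨β, hβ⟩ := exists_aut hsN
  obtain ⟨n, hn⟩ := S.2 ⟨s, hs⟩
  have hTmem : ∀ k : K, π k ∈ (T' : Subgroup (K ⧸ center K)) ↔ k ∈ (T : Subgroup K) := fun k => by
    show π k ∈ (T : Subgroup K).map π ↔ _
    refine ⟨?_, fun hk => mem_map_of_mem _ hk⟩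
    rintro ⟨k', hk', e⟩
    have := hZ _ (QuotientGroup.eq.1 e)
    simpa using mul_mem hk' this
  obtain ⟨g, hg⟩ := inn_of_mod hK.2.2 hna hF T' β (k := n) (MulEquiv.ext fun y => by
      obtain ⟨k, rfl⟩ := hπ y
      rw [(hβ k).2, MulAut.one_apply]
      exact congrArg π (Subtype.ext (by
        show s ^ 2 ^ n * k * (s ^ 2 ^ n)⁻¹ = k
        rw [show s ^ 2 ^ n = 1 from congrArg Subtype.val hn]; group)))
    (fun y hy => by
      obtain ⟨k, rfl⟩ := hπ y
      rw [(hβ k).1, hTmem, hT]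
      exact mul_mem (mul_mem hs ((hT k).1 ((hTmem k).1 hy))) (inv_mem hs))
    (fun y hy => by
      obtain ⟨k, rfl⟩ := hπ y
      rw [(hβ k).1, ← map_inv, ← map_mul, hTmem, hT]
      show s * k * s⁻¹ * (k : G)⁻¹ ∈ (S : Subgroup G)
      have hkN : (k : G) ∈ normalizer ((S : Subgroup G) : Set G) := by
        obtain ⟨x, hxS, hxK, hxn⟩ := h.noncentral
        refine normalizer_le h.ci S (D := (S : Subgroup G) ⊓ K) inf_le_left ⟨x, ⟨hxS, hxK⟩, hxn⟩
          (mem_normalizer_fintype fun a ha => ?_)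
        obtain ⟨haS, haK⟩ := Subgroup.mem_inf.1 ha
        have h1 := (mem_normalizer_iff.1 hy (π ⟨a, haK⟩)).1 ((hTmem _).2 ((hT _).2 haS))
        rw [← map_inv, ← map_mul, ← map_mul, hTmem, hT] at h1
        exact Subgroup.mem_inf.2 ⟨h1, h.normal.conj_mem a haK k⟩
      rw [show s * k * s⁻¹ * (k : G)⁻¹ = s * ((k : G) * s⁻¹ * (k : G)⁻¹) by group]
      exact mul_mem hs ((mem_normalizer_iff.1 hkN _).1 (inv_mem hs)))
  obtain ⟨k, hk, hkS, -, hc⟩ := exists_mul_of_inner h.ci S hK hs hsN hT hZ (fun a => (hβ a).1) hg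
  exact ⟨k, hk, hkS, h.centralizer_le (Subgroup.mem_inf.2 ⟨mul_mem (inv_mem hkS) hs, mem_centralizer_iff.2 fun a ha => hc a ha⟩)⟩

end CfsgLib.CentGen
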