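import Cfsg.Agent.Lib.Invol.CentralInter.General.Component
import Cfsg.Agent.Lib.Goldschmidt.Comp.Center
import Cfsg.Agent.Lib.Goldschmidt.RankOne.Main
import Cfsg.Agent.Lib.Invol.EqualOrderConj.Quat
import Cfsg.Agent.Lib.Invol.AltEightSubgroups
import Cfsg.Agent.Lib.Lie.SLUniv.Main

/-!
# Central Sylow `2`-intersections: the component and the size of its Sylow subgroup
-/

set_option autoImplicit false
set_option linter.unusedSectionVars false
set_option linter.style.haveILetI false

namespace CfsgLib.CentGen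

open Subgroup CfsgLib.CentralNonab
open scoped commutatorElement

universe u v

/-- A perfect central extension is an image of a group with sections. -/
theorem exists_surj_cover {S : Type v} [Group S] [Finite S] {K : Type u} [Group K] [Finite K] {Y : Type*} [Group Y]
    (σ : S →* Y) (hσ : Function.Surjective σ) (π : K →* Y) (hπ : Function.Surjective π)
    (hc : π.ker ≤ center K) (hK : commutator K = ⊤)
    (hsec : ∀ (P : Type (max v u)) [Group P] [Finite P] (p : P →* S), Function.Surjective p → p.ker ≤ center P →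
      ∃ s : S →* P, p.comp s = MonoidHom.id S) :
    ∃ φ : S →* K, Function.Surjective φ ∧ π.comp φ = σ := by
  let D : Subgroup (S × K) :=
    { carrier := {w | σ w.1 = π w.2}
      one_mem' := by simp
      mul_mem' := fun {a b} ha hb => by
        show σ (a.1 * b.1) = π (a.2 * b.2)
        rw [map_mul, map_mul, show σ a.1 = π a.2 from ha, show σ b.1 = π b.2 from hb]
      inv_mem' := fun {a} ha => by
        show σ a.1⁻¹ = π a.2⁻¹
        rw [map_inv, map_inv, show σ a.1 = π a.2 from ha] }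
  obtain ⟨s, hs⟩ := hsec ↥D ((MonoidHom.fst S K).comp D.subtype)
    (fun x => by
      obtain ⟨k, hk⟩ := hπ (σ x)
      exact ⟨⟨(x, k), hk.symm⟩, rfl⟩)
    (fun w hw => mem_center_iff.2 fun z => by
      have h1 : (w : S × K).1 = 1 := hw
      have h2 : π (w : S × K).2 = 1 := by rw [← show σ (w : S × K).1 = π (w : S × K).2 from w.2, h1, map_one]
      refine Subtype.ext (Prod.ext ?_ (mem_center_iff.1 (hc h2) _))
      show (z : S × K).1 * (w : S × K).1 = (w : S × K).1 * (z : S × K).1
      rw [h1, one_mul, mul_one])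
  let φ : S →* K := (MonoidHom.snd S K).comp (D.subtype.comp s)
  have hφ : π.comp φ = σ := MonoidHom.ext fun x => by
    have h1 : ((s x : ↥D) : S × K).1 = x := DFunLike.congr_fun hs x
    show π ((s x : ↥D) : S × K).2 = σ x
    rw [← show σ ((s x : ↥D) : S × K).1 = π ((s x : ↥D) : S × K).2 from (s x).2, h1]
  refine ⟨φ, fun k => ?_, hφ⟩
  have hall : ∀ a : K, ∃ x, a * (φ x)⁻¹ ∈ center K := fun a => by
    obtain ⟨x, hx⟩ := hσ (π a)
    exact ⟨x, hc (by rw [MonoidHom.mem_ker, map_mul, map_inv, ← MonoidHom.comp_apply π φ, hφ, hx, mul_inv_cancel])⟩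
  have : commutator K ≤ φ.range := by
    rw [_root_.commutator_def, commutator_le]
    intro a _ b _
    obtain ⟨x, hx⟩ := hall a
    obtain ⟨y, hy⟩ := hall b
    refine ⟨⁅x, y⁆, ?_⟩
    rw [map_commutatorElement]
    have e1 : ∀ {z : K}, z ∈ center K → ∀ w, Commute z w := fun hz w => (mem_center_iff.1 hz w).symm
    rw [show a = a * (φ x)⁻¹ * φ x by group, show b = b * (φ y)⁻¹ * φ y by group]
    revert hx hy
    generalize a * (φ x)⁻¹ = z
    generalize b * (φ y)⁻¹ = z'
    intro hx hy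
    have h1 : φ x * z' = z' * φ x := ((e1 hy (φ x)).symm).eq
    have h2 : z⁻¹ * (φ y)⁻¹ = (φ y)⁻¹ * z⁻¹ := ((e1 hx (φ y)⁻¹).inv_left).eq
    rw [commutatorElement_def, commutatorElement_def,
      show z * φ x * (z' * φ y) * (z * φ x)⁻¹ * (z' * φ y)⁻¹ =
        z * (φ x * z') * φ y * (φ x)⁻¹ * (z⁻¹ * (φ y)⁻¹) * z'⁻¹ by group, h1, h2]
    calc φ x * φ y * (φ x)⁻¹ * (φ y)⁻¹
        = (φ x * φ y * (φ x)⁻¹ * (φ y)⁻¹) * ((z * z') * (z⁻¹ * z'⁻¹)) := by
          rw [(e1 hx z').eq]; group
      _ = (z * z') * (φ x * φ y * (φ x)⁻¹ * (φ y)⁻¹) * (z⁻¹ * z'⁻¹) := by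
          rw [← mul_assoc, ((e1 hx _).mul_left (e1 hy _)).eq]
      _ = _ := by group
  exact this (hK ▸ mem_top k)

variable {G : Type u} [Group G] [Finite G]

/-- A two-power centre with odd multiplier is trivial. -/
theorem center_eq_bot_of_odd {K : Type u} [Group K] [Finite K] {Y : Type} [Group Y] [Finite Y] {M : Type}
    [CommGroup M] [Finite M] (hM : Cfsg.HasSchurMultiplier Y M) (hodd : Odd (Nat.card M))
    (hK : commutator K = ⊤) (h2 : IsPGroup 2 (center K)) (e : K ⧸ center K ≃* Y) : center K = ⊥ := by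
  obtain ⟨k, hk⟩ := IsPGroup.iff_card.1 h2
  have hd := CfsgLib.Gold.card_center_dvd hM hK e
  rw [hk] at hd
  rcases Nat.eq_zero_or_pos k with rfl | hk0
  · exact Subgroup.card_eq_one.1 (by simpa using hk)
  · exact absurd (even_iff_two_dvd.2 ((dvd_pow_self 2 hk0.ne').trans hd)) (Nat.not_even_iff_odd.2 hodd)

/-- A perfect central extension of `A₅` that is not `A₅` is `SL(2, 5)`. -/
theorem sl_two_five_of_cover {K : Type u} [Group K] [Finite K] (hK : commutator K = ⊤) (hZ : center K ≠ ⊥)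
    (h60 : Nat.card (K ⧸ center K) = 60) (hns : ¬ Group.IsSolvable (K ⧸ center K)) :
    Nonempty (K ≃* Matrix.SpecialLinearGroup (Fin 2) (ZMod 5)) := by
  classical
  haveI : Fact (Nat.Prime 5) := ⟨by norm_num⟩
  obtain ⟨e₁⟩ := CfsgLib.Invol.AltEightSubgroups.alt_five_of_card_sixty hns h60
  obtain ⟨e₂⟩ := CfsgLib.EqConj.alt_five_psl
  set S := Matrix.SpecialLinearGroup (Fin 2) (ZMod 5)
  let σ : S →* Matrix.ProjectiveSpecialLinearGroup (Fin 2) (ZMod 5) := QuotientGroup.mk' _
  let π : K →* Matrix.ProjectiveSpecialLinearGroup (Fin 2) (ZMod 5) :=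
    (e₁.trans e₂).toMonoidHom.comp (QuotientGroup.mk' (center K))
  have hker : π.ker = center K := by
    ext x
    rw [MonoidHom.mem_ker]
    exact (e₁.trans e₂).map_eq_one_iff.trans (QuotientGroup.eq_one_iff x)
  obtain ⟨φ, hφ, hcomp⟩ := exists_surj_cover σ (QuotientGroup.mk'_surjective _) π
    ((e₁.trans e₂).surjective.comp (QuotientGroup.mk'_surjective _)) hker.le hK fun P _ _ p hp hc =>
      CfsgLib.Lie.SLUniv.exists_section_any (F := ZMod 5) le_rfl (fun _ => by rw [ZMod.card]; norm_num)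
        (by rw [ZMod.card]; simp) p hp hc
  refine ⟨(MulEquiv.ofBijective φ ⟨(injective_iff_map_eq_one φ).2 fun a ha => ?_, hφ⟩).symm⟩
  by_contra ha1
  have haσ : a ∈ σ.ker := by rw [MonoidHom.mem_ker, ← hcomp, MonoidHom.comp_apply, ha, map_one]
  have hsq : ∀ b ∈ σ.ker, b = 1 ∨ b = a := by
    have hval : ∀ b ∈ σ.ker, b.1 = (1 : Matrix (Fin 2) (Fin 2) (ZMod 5)) ∨ b.1 = -1 := fun b hb => by
      rcases CfsgLib.FourFree.PSL.proj_eq_iff.1 (show σ b = σ 1 by rw [map_one]; exact hb) with h | h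
      · exact Or.inl h
      · exact Or.inr h
    intro b hb
    rcases hval b hb with h | h
    · exact Or.inl (Subtype.ext h)
    · rcases hval a haσ with h' | h'
      · exact absurd (Subtype.ext h') ha1
      · exact Or.inr (Subtype.ext (h.trans h'.symm))
  refine hZ (eq_bot_iff.2 fun z hz => ?_)
  obtain ⟨b, rfl⟩ := hφ z
  rw [← hker, MonoidHom.mem_ker, ← MonoidHom.comp_apply, hcomp] at hz
  rcases hsq b hz with rfl | rfl
  · exact mem_bot.2 (map_one φ)
  · exact mem_bot.2 ha

variable {S : Sylow 2 G} {K : Subgroup G}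

/-- The quotient of a nonabelian Sylow subgroup of the rank one groups by its centre has order at least eight. -/
theorem four_lt_index {Y : Type u} [Group Y] [Finite Y] (hs : IsSimpleGroup Y)
    (hi : CfsgLib.Gold.IsoFamilies Y) (T : Sylow 2 Y) (hT : ¬ IsMulCommutative (T : Subgroup Y)) :
    4 < (center (T : Subgroup Y)).index ∧ ∀ x : (T : Subgroup Y), x * x ∈ center (T : Subgroup Y) := by
  classical
  haveI : Fact (Nat.Prime 2) := ⟨Nat.prime_two⟩
  obtain ⟨H, hD⟩ := CfsgLib.Gold.RankOne.exists_data_at hs hi T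
  obtain ⟨hsq4, hcen⟩ := hD.sq_central
  refine ⟨?_, fun x => mem_center_iff.2 fun y => Subtype.ext
    (hcen _ (mul_mem x.2 x.2) (hsq4 x x.2) y y.2).symm.eq⟩
  obtain ⟨τ, hτ⟩ := CfsgLib.Gold.RankOne.hasTData_iso hi T
  obtain ⟨u₁, hu₁, u₂, hu₂, hu₁₁, hu₂₂, hu₁ne, hu₂ne, hune⟩ := hτ.two
  have hder := CfsgLib.Gold.RankOne.derived_of_tdata hτ T.2 hT
  by_contra hle
  obtain ⟨a, b, hab⟩ : ∃ a b : (T : Subgroup Y), a * b ≠ b * a := by
    by_contra hh
    push Not at hh
    exact hT ⟨⟨hh⟩⟩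
  set Z := center (T : Subgroup Y)
  set π := QuotientGroup.mk' Z
  have hne : ∀ {g : (T : Subgroup Y)}, π g = 1 → ∀ h, h * g = g * h := fun hg h =>
    mem_center_iff.1 ((QuotientGroup.eq_one_iff _).1 hg) h
  have ha : π a ≠ 1 := fun e => hab (hne e b).symm
  have hb : π b ≠ 1 := fun e => hab (hne e a)
  have hba : π b ≠ π a := fun e => by
    have h1 : π (a⁻¹ * b) = 1 := by rw [map_mul, map_inv, e, inv_mul_cancel]
    refine hab ?_
    calc a * b = a * (a * (a⁻¹ * b)) := by group
      _ = a * ((a⁻¹ * b) * a) := by rw [hne h1 a]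
      _ = b * a := by group
  have hab1 : π (a * b) ≠ 1 := fun e => hab (by
    calc a * b = a⁻¹ * (a * (a * b)) := by group
      _ = a⁻¹ * ((a * b) * a) := by rw [hne e a]
      _ = b * a := by group)
  have hab2 : π (a * b) ≠ π a := fun e => hb (by rwa [map_mul, mul_eq_left] at e)
  have hab3 : π (a * b) ≠ π b := fun e => ha (by rwa [map_mul, mul_eq_right] at e)
  letI := Fintype.ofFinite ((T : Subgroup Y) ⧸ Z)
  have hfour : ({1, π a, π b, π (a * b)} : Finset ((T : Subgroup Y) ⧸ Z)) = Finset.univ := by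
    refine Finset.eq_univ_of_card _ (le_antisymm (Finset.card_le_univ _) ?_)
    rw [← Nat.card_eq_fintype_card, ← index_eq_card]
    refine (not_lt.1 hle).trans (le_of_eq ?_)
    rw [Finset.card_insert_of_notMem (by
        simp only [Finset.mem_insert, Finset.mem_singleton, not_or]
        exact ⟨Ne.symm ha, Ne.symm hb, Ne.symm hab1⟩),
      Finset.card_insert_of_notMem (by
        simp only [Finset.mem_insert, Finset.mem_singleton, not_or]
        exact ⟨Ne.symm hba, Ne.symm hab2⟩),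
      Finset.card_insert_of_notMem (by
        simp only [Finset.mem_singleton]
        exact Ne.symm hab3), Finset.card_singleton]
  -- the derived group is generated by one commutator
  set c : (T : Subgroup Y) := ⁅a, b⁆ with hc
  have hcY : (c : Y) ∈ ⁅(T : Subgroup Y), (T : Subgroup Y)⁆ := commutator_mem_commutator a.2 b.2
  obtain ⟨-, hc2⟩ := (hder _).1 hcY
  have hcZ : c ∈ Z := mem_center_iff.2 fun y => Subtype.ext (hcen _ c.2 hc2 y y.2).symm.eq
  have hN : (zpowers c).Normal := ⟨fun x hx g => by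
    have hxZ : x ∈ Z := zpowers_le.2 hcZ hx
    rwa [mem_center_iff.1 hxZ g, mul_inv_cancel_right]⟩
  let ρ := QuotientGroup.mk' (zpowers c)
  have hcom : Commute (ρ a) (ρ b) := by
    refine commutatorElement_eq_one_iff_mul_comm.1 ?_
    rw [← map_commutatorElement]
    exact (QuotientGroup.eq_one_iff _).2 (mem_zpowers c)
  have hzc : ∀ {g : (T : Subgroup Y)}, π g = 1 → ∀ h, Commute (ρ g) (ρ h) := fun hg h => by
    show ρ _ * ρ h = ρ h * ρ _
    rw [← map_mul, ← map_mul, hne hg h]
  have hdec : ∀ g : (T : Subgroup Y), Commute (ρ g) (ρ a) ∧ Commute (ρ g) (ρ b) := fun g => by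
    have hg : π g ∈ ({1, π a, π b, π (a * b)} : Finset ((T : Subgroup Y) ⧸ Z)) := hfour ▸ Finset.mem_univ _
    simp only [Finset.mem_insert, Finset.mem_singleton] at hg
    have hh : ∀ {r : (T : Subgroup Y)}, π g = π r → Commute (ρ r) (ρ a) → Commute (ρ r) (ρ b) →
        Commute (ρ g) (ρ a) ∧ Commute (ρ g) (ρ b) := fun {r} e ra rb => by
      have h1 : π (g * r⁻¹) = 1 := by rw [map_mul, map_inv, e, mul_inv_cancel]
      rw [show g = g * r⁻¹ * r by group, map_mul ρ (g * r⁻¹) r]
      exact ⟨(hzc h1 a).mul_left ra, (hzc h1 b).mul_left rb⟩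
    rcases hg with e | e | e | e
    · exact ⟨hzc e a, hzc e b⟩
    · exact hh e (Commute.refl _) hcom
    · exact hh e hcom.symm (Commute.refl _)
    · exact hh e (by rw [map_mul]; exact (Commute.refl _).mul_left hcom.symm)
        (by rw [map_mul]; exact hcom.mul_left (Commute.refl _))
  have hall : ∀ g h : (T : Subgroup Y), Commute (ρ g) (ρ h) := fun g h => by
    have hg : π h ∈ ({1, π a, π b, π (a * b)} : Finset ((T : Subgroup Y) ⧸ Z)) := hfour ▸ Finset.mem_univ _
    simp only [Finset.mem_insert, Finset.mem_singleton] at hg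
    have hh : ∀ {r : (T : Subgroup Y)}, π h = π r → Commute (ρ g) (ρ r) → Commute (ρ g) (ρ h) := fun {r} e rc => by
      have h1 : π (h * r⁻¹) = 1 := by rw [map_mul, map_inv, e, mul_inv_cancel]
      rw [show h = h * r⁻¹ * r by group, map_mul ρ (h * r⁻¹) r]
      exact (hzc h1 g).symm.mul_right rc
    rcases hg with e | e | e | e
    · exact (hzc e g).symm
    · exact hh e (hdec g).1
    · exact hh e (hdec g).2
    · exact hh e (by rw [map_mul]; exact (hdec g).1.mul_right (hdec g).2)
  -- but it has at least three involutions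
  have hmem : ∀ w ∈ (T : Subgroup Y), w * w = 1 → w = 1 ∨ w = (c : Y) := fun w hw hww => by
    have h1 := (hder w).2 ⟨hw, hww⟩
    have h2 : ⁅(T : Subgroup Y), (T : Subgroup Y)⁆ ≤ (zpowers c).map (T : Subgroup Y).subtype := by
      rw [commutator_le]
      intro g hg h hh
      refine ⟨⁅(⟨g, hg⟩ : (T : Subgroup Y)), ⟨h, hh⟩⁆, (QuotientGroup.eq_one_iff _).1 ?_, rfl⟩
      show ρ _ = 1
      rw [map_commutatorElement, commutatorElement_eq_one_iff_mul_comm]
      exact (hall _ _).eq
    obtain ⟨x, hx, rfl⟩ := h2 h1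
    obtain ⟨i, rfl⟩ := mem_zpowers_iff.1 hx
    have hc2' : c ^ 2 = 1 := by rw [pow_two]; exact Subtype.ext hc2
    rcases Int.even_or_odd i with ⟨j, rfl⟩ | ⟨j, rfl⟩
    · left
      rw [← two_mul, zpow_mul, zpow_ofNat, hc2', one_zpow]; rfl
    · right
      rw [zpow_add, zpow_mul, zpow_ofNat, hc2', one_zpow, one_mul, zpow_one]; rfl
  rcases hmem u₁ hu₁ hu₁₁ with e | e
  · exact hu₁ne e
  rcases hmem u₂ hu₂ hu₂₂ with e' | e'
  · exact hu₂ne e'
  exact hune (e.trans e'.symm)

/-- The data on the Sylow subgroup of the component used against odd cores. -/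
structure Big (S : Sylow 2 G) (K : Subgroup G) : Prop where
  rank : ∃ (E : Type u) (_ : Group E) (_ : Finite E) (φ : ↥((S : Subgroup G) ⊓ K) →* E),
    (∀ e : E, e * e = 1) ∧ 4 < Nat.card φ.range ∧ ∀ x : ↥((S : Subgroup G) ⊓ K), CentIn (S : Subgroup G) (x : G) → φ x = 1

theorem One.cases (h : One S K) :
    Nonempty (K ≃* Matrix.SpecialLinearGroup (Fin 2) (ZMod 5)) ∨
      (Big S K ∧
        ((center K = ⊥ ∧ (Cfsg.Lie.IsoSuzuki K ∨ ∃ (n : ℕ) (F : Type) (_ : Field F) (_ : Fintype F),
            2 ≤ n ∧ Fintype.card F = 4 ^ n ∧ Nonempty (K ≃* Cfsg.PSU 3 F (2 ^ n)))) ∨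
          (center K ≠ ⊥ ∧ ∃ (F : Type) (_ : Field F) (_ : Fintype F), Fintype.card F = 8 ∧
            Nonempty (K ⧸ center K ≃* Cfsg.Lie.Sz F 4)))) := by
  classical
  haveI : Fact (Nat.Prime 2) := ⟨Nat.prime_two⟩
  have hK := h.comp
  haveI := hK.2.2
  haveI := h.normal
  obtain ⟨T, hT, hZ⟩ := exists_trace h.core S hK
  have hperf : commutator K = ⊤ := by haveI := hK.2.1; exact Group.IsPerfect.commutator_eq_top (G := K)
  have h2 : IsPGroup 2 (center K) := T.2.to_le hZ
  set π := QuotientGroup.mk' (center K) with hπdef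
  have hπ := QuotientGroup.mk'_surjective (center K)
  set T' := T.mapSurjective hπ with hT'def
  have hTmem : ∀ k : K, π k ∈ (T' : Subgroup (K ⧸ center K)) ↔ k ∈ (T : Subgroup K) := fun k => by
    show π k ∈ (T : Subgroup K).map π ↔ _
    refine ⟨?_, fun hk => mem_map_of_mem _ hk⟩
    rintro ⟨k', hk', e⟩
    have := hZ _ (QuotientGroup.eq.1 e)
    simpa using mul_mem hk' this
  have hnaY : ¬ IsMulCommutative (K ⧸ center K) := fun e => by
    haveI := hK.2.1
    haveI : Group.IsPerfect (K ⧸ center K) := Group.IsPerfect.ofSurjective (f := π) hπ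
    haveI := hπ.nontrivial
    exact Group.IsPerfect.not_isSolvable (K ⧸ center K) (Group.isSolvable_of_comm fun a b => mul_comm' a b)
  by_cases hab : IsMulCommutative (T' : Subgroup (K ⧸ center K))
  · -- abelian Sylow subgroup downstairs
    left
    have hC := CfsgLib.Walter.classified _ hK.2.2 hnaY (CfsgLib.Walter.abTwo_of_sylow T' hab)
    obtain ⟨-, helem⟩ := CfsgLib.Walter.Rank.sylow_elementary hK.2.2 hC T'
    obtain ⟨x, hxS, hxK, hxn⟩ := h.noncentral
    set x' : K := ⟨x, hxK⟩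
    have hx1 : π x' ≠ 1 := fun e => hxn (centIn_of_centralizes h.ci S hK hxS fun k hk =>
      congrArg Subtype.val (mem_center_iff.1 ((QuotientGroup.eq_one_iff x').1 e) ⟨k, hk⟩))
    have hxT' : π x' ∈ (T' : Subgroup (K ⧸ center K)) := (hTmem _).2 ((hT _).2 hxS)
    -- the centre is not trivial
    have hZne : center K ≠ ⊥ := fun hbot => hxn fun s hs => by
      obtain ⟨k, hk, hkS, hw⟩ := h.exists_mul hs
      have h1 : Commute x k := by
        have e := congrArg Subtype.val ((hab.is_comm.comm) ⟨π x', hxT'⟩ ⟨π ⟨k, hk⟩, (hTmem _).2 ((hT _).2 hkS)⟩)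
        have e' : π x' * π ⟨k, hk⟩ = π ⟨k, hk⟩ * π x' := e
        rw [← map_mul, ← map_mul] at e'
        have h3 := QuotientGroup.eq.1 e'
        rw [hbot, mem_bot, inv_mul_eq_one] at h3
        exact congrArg Subtype.val h3
      have h2 : Commute x (k⁻¹ * s) := by
        haveI := CfsgLib.Coprime.pCore_normal' (G := G) 2
        haveI := (CfsgLib.Coprime.pCore_isPGroup (G := G) 2).isNilpotent
        exact (CfsgLib.Coprime.commutator_eq_bot_iff_forall.1
          (CfsgLib.Coprime.component_commutator_solvable_eq_bot hK (R := Cfsg.pCore 2 G) inferInstance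
            (by rw [normalizer_eq_top]; exact le_top)) x hxK _ hw)
      have := h1.mul_right h2
      rw [mul_inv_cancel_left] at this
      exact this.symm.eq
    -- centralizers of involutions of `T'` normalise it
    set N := normalizer ((T' : Subgroup (K ⧸ center K)) : Set (K ⧸ center K))
    have hcx : ∀ y, y * π x' = π x' * y → y ∈ N := by
      intro y hy
      obtain ⟨k, rfl⟩ := hπ y
      rw [← map_mul, ← map_mul] at hy
      set z := (x' * k)⁻¹ * (k * x') with hz
      have hzc : z ∈ center K := QuotientGroup.eq.1 hy.symm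
      have hzS : (z : G) ∈ (S : Subgroup G) := (hT z).1 (hZ z hzc)
      have hconj : (k : G) * x * (k : G)⁻¹ = x * z := by
        have e : k * x' * k⁻¹ = x' * z := by
          rw [show k * x' * k⁻¹ = x' * (k * z * k⁻¹) by rw [hz]; group, mem_center_iff.1 hzc k, mul_inv_cancel_right]
        exact congrArg Subtype.val e
      have hn : ¬ CentIn (S : Subgroup G) (x * z) := fun hc => hxn (by
        have := hc.mul (centIn_of_centralizes h.ci S hK hzS fun a ha =>
          congrArg Subtype.val (mem_center_iff.1 hzc ⟨a, ha⟩)).inv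
        rwa [mul_inv_cancel_right] at this)
      have hkN : (k : G) ∈ normalizer ((S : Subgroup G) : Set G) := by
        refine Sylow.smul_eq_iff_mem_normalizer.1 (sylow_eq h.ci (mul_mem hxS hzS) ?_ hn)
        rw [Sylow.coe_subgroup_smul, mem_smul_pointwise_iff_exists]
        exact ⟨x, hxS, hconj⟩
      refine mem_normalizer_fintype fun w hw => ?_
      obtain ⟨a, rfl⟩ := hπ w
      show π k * π a * (π k)⁻¹ ∈ (T' : Subgroup (K ⧸ center K))
      rw [← map_inv, ← map_mul, ← map_mul, hTmem, hT]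
      exact (mem_normalizer_iff.1 hkN a).1 ((hT a).1 ((hTmem a).1 hw))
    obtain ⟨-, -, τ, hτ, htr⟩ := CfsgLib.Gold.RankOne.omega_facts hK.2.2 (Or.inl hC) T'
    have hcall : ∀ t ∈ (T' : Subgroup (K ⧸ center K)), t ≠ 1 → ∀ y, y * t = t * y → y ∈ N := by
      intro t ht ht1 y hy
      obtain ⟨i, hi⟩ := htr _ hxT' (helem _ hxT') hx1 t ht (helem t ht) ht1
      have hmN : τ ^ i ∈ N := pow_mem hτ i
      have h1 : (τ ^ i)⁻¹ * y * τ ^ i ∈ N := hcx _ (by
        calc (τ ^ i)⁻¹ * y * τ ^ i * π x' = (τ ^ i)⁻¹ * (y * (τ ^ i * π x' * (τ ^ i)⁻¹)) * τ ^ i := by group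
          _ = (τ ^ i)⁻¹ * ((τ ^ i * π x' * (τ ^ i)⁻¹) * y) * τ ^ i := by rw [hi, hy]
          _ = π x' * ((τ ^ i)⁻¹ * y * τ ^ i) := by group)
      have := mul_mem (mul_mem hmN h1) (inv_mem hmN)
      rwa [show τ ^ i * ((τ ^ i)⁻¹ * y * τ ^ i) * (τ ^ i)⁻¹ = y by group] at this
    have hNtop : N ≠ ⊤ := fun e => by
      have hn : (T' : Subgroup (K ⧸ center K)).Normal := normalizer_eq_top_iff.1 e
      rcases hn.eq_bot_or_eq_top with e' | e'
      · exact hx1 (mem_bot.1 (e' ▸ hxT'))
      · exact hnaY ⟨⟨fun a b => congrArg Subtype.val (hab.is_comm.comm ⟨a, e' ▸ mem_top a⟩ ⟨b, e' ▸ mem_top b⟩)⟩⟩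
    have hxo : orderOf (π x') = 2 := orderOf_eq_prime (by rw [pow_two]; exact helem _ hxT') hx1
    have hse : Cfsg.IsStronglyEmbedded N := by
      refine (CfsgLib.Invol.stronglyEmbedded_iff hNtop
        (CfsgLib.Invol.even_card_of_invol_mem (le_normalizer hxT') hxo)).2 fun t ht hto g hg => ?_
      have hto' := CfsgLib.Invol.invol_conj hto g
      have htT : t ∈ (T' : Subgroup (K ⧸ center K)) :=
        CfsgLib.CentInt.mem_sylow_of_normalizer_invol ht (CfsgLib.Invol.invol_mul_self hto)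
      have hgT : g * t * g⁻¹ ∈ (T' : Subgroup (K ⧸ center K)) :=
        CfsgLib.CentInt.mem_sylow_of_normalizer_invol hg (CfsgLib.Invol.invol_mul_self hto')
      obtain ⟨i, hi⟩ := htr t htT (helem t htT) (CfsgLib.Invol.invol_ne_one hto) _ hgT (helem _ hgT)
        (CfsgLib.Invol.invol_ne_one hto')
      have h1 : g⁻¹ * τ ^ i ∈ N := hcall t htT (CfsgLib.Invol.invol_ne_one hto) _ (by
        calc g⁻¹ * τ ^ i * t = g⁻¹ * (τ ^ i * t * (τ ^ i)⁻¹) * τ ^ i := by group
          _ = t * (g⁻¹ * τ ^ i) := by rw [hi]; group)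
      have h3 := mul_mem (pow_mem hτ i) (inv_mem h1)
      rwa [show τ ^ i * (g⁻¹ * τ ^ i)⁻¹ = g by group] at h3
    rcases CfsgLib.Bender.Suzuki.isoFamilies_of_se CfsgLib.Bender.Suzuki.classified hse with
      ⟨F, iF, iF', ⟨n, hn, hc⟩, ⟨e⟩⟩ | ⟨F, iF, iF', m, hm, hc, ⟨e⟩⟩ | ⟨F, iF, iF', n, hn, hc, ⟨e⟩⟩
    · haveI : CharP F 2 := charP_of_card_eq_prime_pow hc
      by_cases hn2 : n = 2
      · subst hn2
        refine sl_two_five_of_cover hperf hZne ?_ fun hs => ?_
        · have h1 := CfsgLib.Classical.card_psl2 (F := F)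
          rw [hc] at h1
          norm_num at h1
          rw [Nat.card_congr e.toEquiv, Nat.card_eq_fintype_card]
          exact h1
        · haveI := hK.2.1
          haveI : Group.IsPerfect (K ⧸ center K) := Group.IsPerfect.ofSurjective (f := π) hπ
          haveI := hπ.nontrivial
          exact Group.IsPerfect.not_isSolvable (K ⧸ center K) hs
      · exfalso
        have h8 : 8 ≤ Fintype.card F := by
          rw [hc]; exact le_trans (by norm_num) (Nat.pow_le_pow_right (show 0 < 2 by norm_num) (show 3 ≤ n by omega))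
        haveI : NeZero (Nat.gcd 2 (Fintype.card F - 1)) := ⟨(Nat.gcd_pos_of_pos_left _ (by norm_num)).ne'⟩
        refine hZne (center_eq_bot_of_odd (CfsgLib.Lie.SLUniv.psl_multiplier (F := F) le_rfl (fun _ => by omega) (by
          simp only [Set.mem_insert_iff, Set.mem_singleton_iff, Prod.mk.injEq, not_or]
          refine ⟨?_, ?_, ?_, ?_, ?_⟩ <;> intro hh <;> obtain ⟨h1, h2⟩ := hh <;>
            first | omega | (rw [hc] at h2; have := (Nat.even_pow.2 ⟨even_two, by omega⟩ : Even (2 ^ n)); rw [h2] at this; exact absurd this (by decide))))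
          ?_ hperf h2 e)
        have hev : Even (Fintype.card F) := hc ▸ Nat.even_pow.2 ⟨even_two, by omega⟩
        have hg : Nat.gcd 2 (Fintype.card F - 1) = 1 := Nat.prime_two.coprime_iff_not_dvd.2 (fun hd => by
          have h2 := even_iff_two_dvd.1 hev
          omega)
        rw [Nat.card_congr Multiplicative.toAdd, Nat.card_zmod, hg]
        exact odd_one
    · exfalso
      obtain ⟨f⟩ := CfsgLib.Lie.Suz.exists_twEquiv (F := F) (m := m) hm hc
      haveI : Finite ↥(Cfsg.Lie.Sz F (2 ^ (m + 1))) := Finite.of_equiv _ f.toEquiv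
      rcases Nat.lt_or_ge m 2 with hm2 | hm2
      · obtain rfl : m = 1 := by omega
        have hd := CfsgLib.Gold.eightData hc (e.trans f.symm) T'
        have hcard : Nat.card {y : K ⧸ center K // y ∈ (T' : Subgroup (K ⧸ center K)) ∧ y * y = 1} =
            Nat.card (T' : Subgroup (K ⧸ center K)) :=
          Nat.card_congr (Equiv.subtypeEquivRight fun y => ⟨And.left, fun hy => ⟨hy, helem y hy⟩⟩)
        rw [hd.omega, hd.card] at hcard
        omega
      · haveI : Finite (Multiplicative (ZMod 1)) := inferInstance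
        exact hZne (center_eq_bot_of_odd (Cfsg.Agent.S2111.result hm2 hc)
          (by rw [Nat.card_congr Multiplicative.toAdd, Nat.card_zmod]; exact odd_one) hperf h2 e)
    · exfalso
      haveI : NeZero (Nat.gcd 3 (2 ^ n + 1)) := ⟨(Nat.gcd_pos_of_pos_left _ (by norm_num)).ne'⟩
      haveI : Finite (Cfsg.PSU 3 F (2 ^ n)) := Finite.of_equiv _ e.toEquiv
      exact hZne (center_eq_bot_of_odd (CfsgLib.CentralNonab.psu_three_multiplier hn hc)
        (by
          rw [Nat.card_congr Multiplicative.toAdd, Nat.card_zmod]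
          rcases (Nat.dvd_prime Nat.prime_three).1 (Nat.gcd_dvd_left 3 (2 ^ n + 1)) with h3 | h3 <;> rw [h3] <;> decide)
        hperf h2 e)
  · -- nonabelian Sylow subgroup downstairs
    right
    have hCIY : CI (K ⧸ center K) := CfsgLib.CentGen.CI.quotient (CfsgLib.CentGen.CI.normal h.ci K) (center K)
    have hcl := CfsgLib.CentralNonab.classify hCIY hnaY T' hab
    have hi : CfsgLib.Gold.IsoFamilies (K ⧸ center K) := by
      rcases hcl with hsz | ⟨n, F, iF, iF', hn, hc, he⟩
      · exact Or.inr (Or.inl hsz)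
      · exact Or.inr (Or.inr ⟨F, iF, iF', n, hn, by
          rw [hc, ← pow_mul, show (4 : ℕ) = 2 ^ 2 from rfl, ← pow_mul, mul_comm], he⟩)
    refine ⟨⟨?_⟩, ?_⟩
    · obtain ⟨hidx, hsqc⟩ := four_lt_index hK.2.2 hi T' hab
      let f : ↥((S : Subgroup G) ⊓ K) →* (T' : Subgroup (K ⧸ center K)) :=
        MonoidHom.mk' (fun x => ⟨π ⟨x, (Subgroup.mem_inf.1 x.2).2⟩,
          (hTmem _).2 ((hT _).2 (Subgroup.mem_inf.1 x.2).1)⟩)
          fun a b => Subtype.ext (map_mul π (⟨(a : G), (Subgroup.mem_inf.1 a.2).2⟩ : K) ⟨(b : G), (Subgroup.mem_inf.1 b.2).2⟩)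
      have hf : Function.Surjective f := by
        rintro ⟨y, hy⟩
        obtain ⟨k, rfl⟩ := hπ y
        exact ⟨⟨k, Subgroup.mem_inf.2 ⟨(hT k).1 ((hTmem k).1 hy), k.2⟩⟩, rfl⟩
      refine ⟨(T' : Subgroup (K ⧸ center K)) ⧸ center (T' : Subgroup (K ⧸ center K)), inferInstance, inferInstance,
        (QuotientGroup.mk' _).comp f, fun e => ?_, ?_, fun x hx => ?_⟩
      · obtain ⟨w, rfl⟩ := QuotientGroup.mk'_surjective _ e
        rw [← map_mul]
        exact (QuotientGroup.eq_one_iff _).2 (hsqc w)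
      · rw [MonoidHom.range_eq_top.2 (show Function.Surjective ((QuotientGroup.mk' (center (T' : Subgroup (K ⧸ center K)))).comp f) from
            (QuotientGroup.mk'_surjective _).comp hf), card_top, ← index_eq_card]
        exact hidx
      · show QuotientGroup.mk' _ (f x) = 1
        refine (QuotientGroup.eq_one_iff _).2 (mem_center_iff.2 fun w => ?_)
        obtain ⟨y, rfl⟩ := hf w
        rw [← map_mul, ← map_mul]
        exact congrArg f (Subtype.ext (hx y (Subgroup.mem_inf.1 y.2).1))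
    · by_cases hZ1 : center K = ⊥
      · refine Or.inl ⟨hZ1, ?_⟩
        let e₀ : K ≃* K ⧸ center K :=
          ((QuotientGroup.quotientMulEquivOfEq hZ1).trans QuotientGroup.quotientBot).symm
        rcases hcl with ⟨F, iF, iF', m, hm, hc, ⟨e⟩⟩ | ⟨n, F, iF, iF', hn, hc, ⟨e⟩⟩
        · exact Or.inl ⟨F, iF, iF', m, hm, hc, ⟨e₀.trans e⟩⟩
        · exact Or.inr ⟨n, F, iF, iF', hn, hc, ⟨e₀.trans e⟩⟩
      · refine Or.inr ⟨hZ1, ?_⟩
        rcases hcl with ⟨F, iF, iF', m, hm, hc, ⟨e⟩⟩ | ⟨n, F, iF, iF', hn, hc, ⟨e⟩⟩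
        · obtain ⟨f⟩ := CfsgLib.Lie.Suz.exists_twEquiv (F := F) (m := m) hm hc
          haveI : Finite ↥(Cfsg.Lie.Sz F (2 ^ (m + 1))) := Finite.of_equiv _ f.toEquiv
          rcases Nat.lt_or_ge m 2 with hm2 | hm2
          · obtain rfl : m = 1 := by omega
            exact ⟨F, iF, iF', by rw [hc]; norm_num, ⟨e⟩⟩
          · exact absurd (center_eq_bot_of_odd (Cfsg.Agent.S2111.result hm2 hc)
              (by rw [Nat.card_congr Multiplicative.toAdd, Nat.card_zmod]; exact odd_one) hperf h2 e) hZ1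
        · haveI : NeZero (Nat.gcd 3 (2 ^ n + 1)) := ⟨(Nat.gcd_pos_of_pos_left _ (by norm_num)).ne'⟩
          haveI : Finite (Cfsg.PSU 3 F (2 ^ n)) := Finite.of_equiv _ e.toEquiv
          exact absurd (center_eq_bot_of_odd (CfsgLib.CentralNonab.psu_three_multiplier hn
              (by rw [hc, ← pow_mul, show (4 : ℕ) = 2 ^ 2 from rfl, ← pow_mul, mul_comm]))
            (by
              rw [Nat.card_congr Multiplicative.toAdd, Nat.card_zmod]
              rcases (Nat.dvd_prime Nat.prime_three).1 (Nat.gcd_dvd_left 3 (2 ^ n + 1)) with h3 | h3 <;> rw [h3] <;> decide)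
            hperf h2 e) hZ1

end CfsgLib.CentGen
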