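import Cfsg.Agent.Lib.Invol.CentralInter.General.Basic
import Cfsg.Agent.Lib.Coprime.UniqueOrderP
import Cfsg.Agent.S0205

/-!
# A two-group whose noncentral elements have no fixed points centralizes a group of odd order

If the quotient of `Q` by its elements central in `S` has an elementary abelian quotient of order at least
eight, and a noncentral element of `Q` centralizes only what `Q` centralizes in the group of odd order, then
`Q` centralizes it.
-/

set_option autoImplicit false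
set_option linter.unusedSectionVars false
set_option linter.style.haveILetI false

namespace CfsgLib.CentGen

open Subgroup
open scoped commutatorElement

universe u v

variable {G : Type u} [Group G] [Finite G]

/-- An elementary abelian quotient of a cyclic or quaternion group has order at most four. -/
theorem card_range_le_four {Q : Type*} [Group Q] [Finite Q] (hQ : IsPGroup 2 Q)
    (hu : CfsgLib.Coprime.UniqueOrderP 2 Q) {E : Type v} [Group E] [Finite E] (φ : Q →* E)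
    (hE : ∀ e : E, e * e = 1) : Nat.card φ.range ≤ 4 := by
  classical
  haveI : Fact (Nat.Prime 2) := ⟨Nat.prime_two⟩
  obtain ⟨A, B, hAB⟩ : ∃ A B : E, ∀ q : Q, φ q = 1 ∨ φ q = A ∨ φ q = B ∨ φ q = B * A := by
    have hpow : ∀ (e : E) (i : ℕ), e ^ i = 1 ∨ e ^ i = e := fun e i => by
      induction i with
      | zero => exact Or.inl (pow_zero e)
      | succ i ih =>
        rcases ih with h | h <;> rw [pow_succ, h]
        · exact Or.inr (one_mul e)
        · exact Or.inl (hE e)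
    rcases CfsgLib.Coprime.cyclic_or_quaternion_of_unique hQ hu with hc | ⟨-, n, ⟨e⟩⟩
    · obtain ⟨g, hg⟩ := IsCyclic.exists_generator (α := Q)
      refine ⟨φ g, 1, fun q => ?_⟩
      obtain ⟨i, rfl⟩ := (Submonoid.mem_powers_iff q g).1 (mem_powers_iff_mem_zpowers.2 (hg q))
      rcases hpow (φ g) i with h | h
      · exact Or.inl (by rw [map_pow, h])
      · exact Or.inr (Or.inl (by rw [map_pow, h]))
    · haveI : NeZero (2 ^ n) := ⟨pow_ne_zero _ two_ne_zero⟩
      refine ⟨φ (e.symm (.a 1)), φ (e.symm (.xa 0)), fun q => ?_⟩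
      obtain ⟨w, rfl⟩ := e.symm.surjective q
      have ha : ∀ i : ZMod (2 * 2 ^ n), φ (e.symm (.a i)) = φ (e.symm (.a 1)) ^ i.val := fun i => by
        rw [← map_pow, ← map_pow, QuaternionGroup.a_one_pow, ZMod.natCast_zmod_val]
      rcases w with i | i
      · rcases hpow (φ (e.symm (.a 1))) i.val with h | h
        · exact Or.inl (by rw [ha, h])
        · exact Or.inr (Or.inl (by rw [ha, h]))
      · rw [show QuaternionGroup.xa i = QuaternionGroup.xa 0 * QuaternionGroup.a i by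
          rw [QuaternionGroup.xa_mul_a, zero_add], map_mul, map_mul, ha]
        rcases hpow (φ (e.symm (.a 1))) i.val with h | h <;> rw [h]
        · exact Or.inr (Or.inr (Or.inl (mul_one _)))
        · exact Or.inr (Or.inr (Or.inr rfl))
  let f : Fin 4 → E := ![1, A, B, B * A]
  have hsub : (φ.range : Set E) ⊆ Set.range f := by
    rintro _ ⟨q, rfl⟩
    rcases hAB q with h | h | h | h
    · exact ⟨0, h.symm⟩
    · exact ⟨1, h.symm⟩
    · exact ⟨2, h.symm⟩
    · exact ⟨3, h.symm⟩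
  calc Nat.card φ.range ≤ Nat.card (Set.range f) := by
        rw [← SetLike.coe_sort_coe]
        exact Nat.card_mono (Set.finite_range f) hsub
    _ ≤ Nat.card (Fin 4) := Finite.card_range_le f
    _ = 4 := by rw [Nat.card_eq_fintype_card, Fintype.card_fin]

theorem centralizes_odd {S Q O : Subgroup G} [O.Normal] (hQ : IsPGroup 2 Q) (hQS : Q ≤ S)
    (hO : Odd (Nat.card O)) {E : Type v} [Group E] [Finite E] (φ : Q →* E) (hE : ∀ e : E, e * e = 1)
    (h8 : 4 < Nat.card φ.range) (hker : ∀ x : Q, CentIn S (x : G) → φ x = 1)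
    (hfree : ∀ x ∈ Q, ¬ CentIn S x → ∀ o ∈ O, o * x = x * o → ∀ s ∈ Q, o * s = s * o) :
    ∀ o ∈ O, ∀ s ∈ Q, o * s = s * o := by
  classical
  haveI : Fact (Nat.Prime 2) := ⟨Nat.prime_two⟩
  suffices key : ∀ n, ∀ X : Subgroup G, X ≤ O → Q ≤ normalizer (X : Set G) → Nat.card X ≤ n →
      ∀ o ∈ X, ∀ s ∈ Q, o * s = s * o from key _ O le_rfl (by rw [normalizer_eq_top]; exact le_top) le_rfl
  intro n
  induction n using Nat.strong_induction_on with
  | _ n ih =>
  intro X hXO hQX hXn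
  set F := X ⊓ centralizer (Q : Set G) with hFdef
  by_contra hcon
  have hmemF : ∀ k ∈ X, k ∈ F ↔ ∀ s ∈ Q, k * s = s * k := fun k hk =>
    ⟨fun h s hs => (mem_centralizer_iff.1 (Subgroup.mem_inf.1 h).2 s hs).symm,
      fun h => Subgroup.mem_inf.2 ⟨hk, mem_centralizer_iff.2 fun s hs => (h s hs).symm⟩⟩
  have hFX : ∃ k ∈ X, k ∉ F := by
    by_contra hh
    push Not at hh
    exact hcon fun o ho => (hmemF o ho).1 (hh o ho)
  -- the derived group is centralized
  have hXsolv : Group.IsSolvable X := Cfsg.Agent.S0205.result (hO.of_dvd_nat (card_dvd_of_le hXO))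
  have hder : ⁅X, X⁆ ≤ F := by
    have hle : ⁅X, X⁆ ≤ X := commutator_le_self X
    have hlt : Nat.card ↥⁅X, X⁆ < Nat.card X := by
      refine lt_of_le_of_ne (card_le_of_le hle) fun e => ?_
      have heq : ⁅X, X⁆ = X := eq_of_le_of_card_ge hle e.ge
      haveI := hXsolv
      haveI : Nontrivial X := by
        obtain ⟨k, hk, hkF⟩ := hFX
        exact ⟨⟨k, hk⟩, 1, fun e => hkF (by rw [show k = 1 from congrArg Subtype.val e]; exact one_mem F)⟩
      haveI : Group.IsPerfect X := Subgroup.isPerfect_iff.2 heq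
      exact Group.IsPerfect.not_isSolvable X hXsolv
    have hnorm : Q ≤ normalizer ((⁅X, X⁆ : Subgroup G) : Set G) := fun q hq => by
      rw [← CfsgLib.Coprime.conjBy_eq_self_iff, CfsgLib.Coprime.conjBy, map_commutator]
      exact congrArg₂ _ (CfsgLib.Coprime.conjBy_eq_self_iff.2 (hQX hq)) (CfsgLib.Coprime.conjBy_eq_self_iff.2 (hQX hq))
    intro k hk
    exact (hmemF k (hle hk)).2 (ih _ (hlt.trans_le hXn) _ (hle.trans hXO) hnorm le_rfl k hk)
  have hcomm : ∀ a ∈ X, ∀ b ∈ X, a * b * a⁻¹ * b⁻¹ ∈ F := fun a ha b hb =>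
    hder (commutator_mem_commutator ha hb)
  have hFn : ∀ a ∈ X, ∀ f ∈ F, a * f * a⁻¹ ∈ F := fun a ha f hf => by
    have := mul_mem (hcomm a ha f (Subgroup.mem_inf.1 hf).1) hf
    rwa [inv_mul_cancel_right] at this
  have hact : ∀ q ∈ Q, ∀ k ∈ X, q * k * q⁻¹ ∈ X := fun q hq k hk => (mem_normalizer_iff.1 (hQX hq) k).1 hk
  have hqF : ∀ q ∈ Q, ∀ f ∈ F, q * f * q⁻¹ = f := fun q hq f hf => by
    rw [← (hmemF f (Subgroup.mem_inf.1 hf).1).1 hf q hq, mul_inv_cancel_right]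
  -- fixed modulo `F` means fixed
  have hlift : ∀ x ∈ Q, ¬ CentIn S x → ∀ k ∈ X, x * k * x⁻¹ * k⁻¹ ∈ F → k ∈ F := by
    intro x hx hxn k hk hfix
    have hcop : (Nat.card (zpowers x)).Coprime (Nat.card F) := by
      obtain ⟨j, hj⟩ := hQ ⟨x, hx⟩
      refine Nat.Coprime.coprime_dvd_left ?_ (((Nat.coprime_two_left).2
        (hO.of_dvd_nat (card_dvd_of_le ((inf_le_left : F ≤ X).trans hXO)))).pow_left j)
      rw [Nat.card_zpowers]
      exact orderOf_dvd_of_pow_eq_one (congrArg Subtype.val hj)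
    have hA : zpowers x ≤ normalizer (F : Set G) := zpowers_le.2 (mem_normalizer_fintype fun f hf => by
      rw [hqF x hx f hf]; exact hf)
    obtain ⟨m, hm, hkm⟩ := CfsgLib.Coprime.exists_fixed_in_coset hA hcop
      (Or.inl (CfsgLib.Coprime.isSolvable_of_isMulCommutative inferInstance))
      (k := k) (mem_normalizer_fintype fun f hf => hFn k hk f hf) (fun a ha => by
        obtain ⟨i, rfl⟩ := (Submonoid.mem_powers_iff a x).1 (mem_powers_iff_mem_zpowers.2 ha)
        induction i with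
        | zero => simp
        | succ i ih' =>
          have h1 := mul_mem (show x * (x ^ i * k * (x ^ i)⁻¹ * k⁻¹) * x⁻¹ ∈ F by
            rw [hqF x hx _ (ih' (pow_mem (mem_zpowers x) i))]; exact ih' (pow_mem (mem_zpowers x) i)) hfix
          rw [pow_succ']
          rwa [show x * x ^ i * k * (x * x ^ i)⁻¹ * k⁻¹ =
            x * (x ^ i * k * (x ^ i)⁻¹ * k⁻¹) * x⁻¹ * (x * k * x⁻¹ * k⁻¹) by group])
    have hmX := (Subgroup.mem_inf.1 hm).1
    have hkmF : k * m ∈ F := (hmemF _ (mul_mem hk hmX)).2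
      (hfree x hx hxn (k * m) (hXO (mul_mem hk hmX)) ((mem_centralizer_iff.1 hkm x (mem_zpowers x)).symm))
    simpa using mul_mem hkmF (inv_mem hm)
  -- the central stabilizers
  let M : {k : G // k ∈ X ∧ k ∉ F} → Subgroup Q := fun k =>
    { carrier := {q | CentIn S (q : G) ∧ (q : G) * k.1 * (q : G)⁻¹ * k.1⁻¹ ∈ F}
      one_mem' := ⟨fun s _ => by simp, by simp⟩
      mul_mem' := fun {a b} ha hb => ⟨ha.1.mul hb.1, by
        have h1 := hqF a a.2 _ hb.2
        rw [show ((a * b : Q) : G) * k.1 * ((a * b : Q) : G)⁻¹ * k.1⁻¹ =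
          (a : G) * ((b : G) * k.1 * (b : G)⁻¹ * k.1⁻¹) * (a : G)⁻¹ * ((a : G) * k.1 * (a : G)⁻¹ * k.1⁻¹) by
          rw [Subgroup.coe_mul]; group, h1]
        exact mul_mem hb.2 ha.2⟩
      inv_mem' := fun {a} ha => ⟨ha.1.inv, by
        rw [show ((a⁻¹ : Q) : G) * k.1 * ((a⁻¹ : Q) : G)⁻¹ * k.1⁻¹ =
          ((a⁻¹ : Q) : G) * ((a : G) * k.1 * (a : G)⁻¹ * k.1⁻¹)⁻¹ * ((a⁻¹ : Q) : G)⁻¹ by
          rw [Subgroup.coe_inv]; group, hqF _ (a⁻¹).2 _ (inv_mem ha.2)]
        exact inv_mem ha.2⟩ }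
  haveI : Nonempty {k : G // k ∈ X ∧ k ∉ F} := by
    obtain ⟨k, hk, hkF⟩ := hFX
    exact ⟨⟨k, hk, hkF⟩⟩
  obtain ⟨k₀, hk₀⟩ := Finite.exists_max (fun k => Nat.card (M k))
  set N := M k₀ with hN
  haveI : N.Normal := ⟨fun q hq a => by
    have : a * q * a⁻¹ = q := Subtype.ext (by
      show (a : G) * q * (a : G)⁻¹ = q
      rw [hq.1 a (hQS a.2), mul_inv_cancel_right])
    rwa [this]⟩
  -- an element fixing a point fixed by `N` lies in `N`
  have hfix : ∀ k (hk : k ∈ X) (hkF : k ∉ F), N ≤ M ⟨k, hk, hkF⟩ → ∀ q : Q,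
      (q : G) * k * (q : G)⁻¹ * k⁻¹ ∈ F → q ∈ N := by
    intro k hk hkF hle q hq
    have hc : CentIn S (q : G) := by_contra fun hn => hkF (hlift q q.2 hn k hk hq)
    rw [eq_of_le_of_card_ge hle (hk₀ _)]
    exact ⟨hc, hq⟩
  have hinv : ∀ q : Q, q ∉ N → q * q ∈ N → (q : G) * k₀.1 * (q : G)⁻¹ * k₀.1 ∈ F := by
    intro q hq hqq
    obtain ⟨k, hk, hkF⟩ := k₀
    by_contra hne
    have hqk := hact q q.2 k hk
    set k' := (q : G) * k * (q : G)⁻¹ * k with hk'
    have hk'X : k' ∈ X := mul_mem hqk hk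
    refine hq (hfix k' hk'X hne (fun m hm => ⟨hm.1, ?_⟩) q ?_)
    · have e : (m : G) * q = q * m := (hm.1 q (hQS q.2)).symm
      show (m : G) * k' * (m : G)⁻¹ * k'⁻¹ ∈ F
      rw [hk', show (m : G) * ((q : G) * k * (q : G)⁻¹ * k) * (m : G)⁻¹ * ((q : G) * k * (q : G)⁻¹ * k)⁻¹ =
        ((m : G) * q * k * ((m : G) * q)⁻¹) * ((m : G) * k * (m : G)⁻¹ * k⁻¹) *
          ((q : G) * k * (q : G)⁻¹)⁻¹ by group, e,
        show (q : G) * m * k * ((q : G) * m)⁻¹ =
          (q : G) * ((m : G) * k * (m : G)⁻¹ * k⁻¹) * (q : G)⁻¹ * ((q : G) * k * (q : G)⁻¹) by group,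
        hqF q q.2 _ hm.2]
      rw [show ∀ a b : G, a * b * a * b⁻¹ = a * (b * a * b⁻¹) from fun a b => by group]
      exact mul_mem hm.2 (hFn _ hqk _ hm.2)
    · have h2 : (q : G) * ((q : G) * k * (q : G)⁻¹) * (q : G)⁻¹ * k⁻¹ ∈ F := by
        have := hqq.2
        rwa [show ((q * q : Q) : G) * k * ((q * q : Q) : G)⁻¹ * k⁻¹ =
          (q : G) * ((q : G) * k * (q : G)⁻¹) * (q : G)⁻¹ * k⁻¹ by rw [Subgroup.coe_mul]; group] at this
      rw [hk', show (q : G) * ((q : G) * k * (q : G)⁻¹ * k) * (q : G)⁻¹ * ((q : G) * k * (q : G)⁻¹ * k)⁻¹ =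
        ((q : G) * ((q : G) * k * (q : G)⁻¹) * (q : G)⁻¹ * k⁻¹) *
          (k * ((q : G) * k * (q : G)⁻¹) * k⁻¹ * ((q : G) * k * (q : G)⁻¹)⁻¹) by group]
      exact mul_mem h2 (hcomm k hk _ hqk)
  -- so `Q / N` has at most one involution
  have hQN : IsPGroup 2 (Q ⧸ N) := hQ.to_quotient N
  have hu : CfsgLib.Coprime.UniqueOrderP 2 (Q ⧸ N) := by
    intro a b ha hb ha1
    obtain ⟨q, rfl⟩ := QuotientGroup.mk'_surjective N a
    obtain ⟨q', rfl⟩ := QuotientGroup.mk'_surjective N b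
    by_cases hb1 : QuotientGroup.mk' N q' = 1
    · rw [hb1]; exact one_mem _
    rw [pow_two, ← map_mul] at ha hb
    have h1 := hinv q (fun e => ha1 ((QuotientGroup.eq_one_iff q).2 e)) ((QuotientGroup.eq_one_iff _).1 ha)
    have h2 := hinv q' (fun e => hb1 ((QuotientGroup.eq_one_iff q').2 e)) ((QuotientGroup.eq_one_iff _).1 hb)
    have h3 : q⁻¹ * q' ∈ N := by
      refine hfix k₀.1 k₀.2.1 k₀.2.2 le_rfl _ ?_
      have h4 := hqF (q : G)⁻¹ (inv_mem q.2) _ (mul_mem h2 (inv_mem h1))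
      rw [show ((q⁻¹ * q' : Q) : G) * k₀.1 * ((q⁻¹ * q' : Q) : G)⁻¹ * k₀.1⁻¹ =
        (q : G)⁻¹ * (((q' : G) * k₀.1 * (q' : G)⁻¹ * k₀.1) * ((q : G) * k₀.1 * (q : G)⁻¹ * k₀.1)⁻¹) *
          (q : G)⁻¹⁻¹ by rw [Subgroup.coe_mul, Subgroup.coe_inv]; group, h4]
      exact mul_mem h2 (inv_mem h1)
    rw [show QuotientGroup.mk' N q' = QuotientGroup.mk' N q from (QuotientGroup.eq.2 h3).symm]
    exact mem_zpowers _
  let ψ : Q ⧸ N →* E := QuotientGroup.lift N φ fun q hq => hker q hq.1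
  have hr : ψ.range = φ.range := by
    ext e
    refine ⟨?_, fun ⟨q, hq⟩ => ⟨q, hq⟩⟩
    rintro ⟨w, rfl⟩
    obtain ⟨q, rfl⟩ := QuotientGroup.mk'_surjective N w
    exact ⟨q, rfl⟩
  have := card_range_le_four hQN hu ψ hE
  rw [hr] at this
  omega

end CfsgLib.CentGen
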