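import Cfsg.Agent.Lib.Invol.CentralInter.General.Cover
import Cfsg.Agent.Lib.Invol.CentralInter.General.OddFree

/-!
# Central Sylow `2`-intersections: lifting the component over the odd core
-/

set_option autoImplicit false
set_option linter.unusedSectionVars false
set_option linter.style.haveILetI false

namespace CfsgLib.CentGen

open Subgroup CfsgLib.CentralNonab
open scoped commutatorElement

universe u v

/-- Central factors do not change a commutator. -/
theorem comm_central {G : Type u} [Group G] {p q z w : G} (hzq : Commute z q) (hzw : Commute z w)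
    (hzp : Commute z p) (hwp : Commute w p) (hwq : Commute w q) : ⁅z * p, w * q⁆ = ⁅p, q⁆ := by
  have h1 : p * w = w * p := hwp.symm.eq
  have h2 : z⁻¹ * q⁻¹ = q⁻¹ * z⁻¹ := hzq.inv_left.inv_right.eq
  rw [commutatorElement_def, commutatorElement_def]
  calc z * p * (w * q) * (z * p)⁻¹ * (w * q)⁻¹
      = z * (p * w) * q * p⁻¹ * (z⁻¹ * q⁻¹) * w⁻¹ := by group
    _ = (z * w) * (p * q * p⁻¹ * q⁻¹) * (z⁻¹ * w⁻¹) := by rw [h1, h2]; group
    _ = (p * q * p⁻¹ * q⁻¹) * ((z * w) * (z⁻¹ * w⁻¹)) := by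
        have hp : Commute (z * w) p := hzp.mul_left hwp
        have hq : Commute (z * w) q := hzq.mul_left hwq
        rw [(((hp.mul_right hq).mul_right hp.inv_right).mul_right hq.inv_right).eq]
        group
    _ = p * q * p⁻¹ * q⁻¹ := by rw [hzw.eq]; group

/-- Under a central surjection from a perfect group the centre is the preimage of the centre. -/
theorem comap_center_eq {L : Type u} {K : Type v} [Group L] [Group K] (f : L →* K) (hf : Function.Surjective f)
    (hker : f.ker ≤ center L) (hL : commutator L = ⊤) : (center K).comap f = center L := by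
  refine le_antisymm (fun z hz => ?_) fun z hz => mem_center_iff.2 fun y => ?_
  · have hc : ∀ y, z * y * z⁻¹ * y⁻¹ ∈ center L := fun y => hker (by
      rw [MonoidHom.mem_ker, map_mul, map_mul, map_mul, map_inv, map_inv, ← mem_center_iff.1 (mem_comap.1 hz) (f y)]
      group)
    refine mem_center_iff.2 fun y => ?_
    have hsub : commutator L ≤ centralizer ({z} : Set L) := by
      rw [_root_.commutator_def, commutator_le]
      intro a _ b _
      refine mem_centralizer_iff.2 fun w hw => ?_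
      rw [Set.mem_singleton_iff.1 hw]
      have h2 : z * ⁅a, b⁆ * z⁻¹ = ⁅a, b⁆ := by
        have e : ∀ t, Commute (z * a * z⁻¹ * a⁻¹) t ∧ Commute (z * b * z⁻¹ * b⁻¹) t := fun t =>
          ⟨(mem_center_iff.1 (hc a) t).symm, (mem_center_iff.1 (hc b) t).symm⟩
        calc z * ⁅a, b⁆ * z⁻¹ = ⁅z * a * z⁻¹ * a⁻¹ * a, z * b * z⁻¹ * b⁻¹ * b⁆ := by
              rw [commutatorElement_def, commutatorElement_def]; group
          _ = ⁅a, b⁆ := comm_central (e b).1 (e _).1 (e a).1 (e a).2 (e b).2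
      exact mul_inv_eq_iff_eq_mul.1 h2
    exact (mem_centralizer_iff.1 (hsub (hL ▸ mem_top y)) z rfl).symm
  · obtain ⟨x, rfl⟩ := hf y
    rw [← map_mul, ← map_mul, mem_center_iff.1 hz x]

/-- The central quotients agree. -/
theorem exists_center_equiv {L : Type u} {K : Type v} [Group L] [Group K] (f : L →* K) (hf : Function.Surjective f)
    (hker : f.ker ≤ center L) (hL : commutator L = ⊤) : Nonempty (L ⧸ center L ≃* K ⧸ center K) := by
  let g : L →* K ⧸ center K := (QuotientGroup.mk' (center K)).comp f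
  have hg : g.ker = center L := by
    ext x
    rw [MonoidHom.mem_ker, ← comap_center_eq f hf hker hL, mem_comap]
    exact QuotientGroup.eq_one_iff _
  exact ⟨(QuotientGroup.quotientMulEquivOfEq hg.symm).trans
    (QuotientGroup.quotientKerEquivOfSurjective g ((QuotientGroup.mk'_surjective _).comp hf))⟩

variable {G : Type u} [Group G] [Finite G]

/-- The structure over the odd core. -/
theorem exists_lift (hCI : CI G) (S : Sylow 2 G) {O : Subgroup G} [O.Normal] (hO : Odd (Nat.card O))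
    {S' : Sylow 2 (G ⧸ O)} (hS' : (S' : Subgroup (G ⧸ O)) = (S : Subgroup G).map (QuotientGroup.mk' O))
    {K : Subgroup (G ⧸ O)} (h : One S' K) (hB : Big S' K) :
    ∃ A L : Subgroup G, A.Normal ∧ L.Normal ∧ IsMulCommutative ↥A ∧ IsPGroup 2 ↥A ∧
      (∀ a ∈ A, ∀ l ∈ L, a * l = l * a) ∧ Odd (A ⊔ L).index ∧ commutator ↥L = ⊤ ∧
      A.map (QuotientGroup.mk' O) ≤ Cfsg.pCore 2 (G ⧸ O) ∧ A ≤ (S : Subgroup G) ∧
      ∃ f : ↥L →* ↥K, Function.Surjective f ∧ f.ker ≤ center ↥L ∧ Odd (Nat.card f.ker) ∧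
        ∀ l : ↥L, (f l : G ⧸ O) = QuotientGroup.mk' O (l : G) := by
  classical
  haveI : Fact (Nat.Prime 2) := ⟨Nat.prime_two⟩
  set π := QuotientGroup.mk' O with hπdef
  have hπ := QuotientGroup.mk'_surjective O
  have hK := h.comp
  haveI := h.normal
  haveI := CfsgLib.Coprime.pCore_normal' (G := G ⧸ O) 2
  set P := Cfsg.pCore 2 (G ⧸ O) with hPdef
  have hPS : P ≤ (S' : Subgroup (G ⧸ O)) := IsPGroup.le_sylow_of_normal (CfsgLib.Coprime.pCore_isPGroup 2) S'
  have hPK : ∀ k ∈ K, ∀ p ∈ P, k * p = p * k := by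
    haveI := (CfsgLib.Coprime.pCore_isPGroup (G := G ⧸ O) 2).isNilpotent
    exact fun k hk p hp => CfsgLib.Coprime.commutator_eq_bot_iff_forall.1
      (CfsgLib.Coprime.component_commutator_solvable_eq_bot hK (R := P) inferInstance
        (by rw [normalizer_eq_top]; exact le_top)) k hk p hp
  -- `S` meets `O` trivially
  have hSO : ∀ x ∈ (S : Subgroup G), x ∈ O → x = 1 := fun x hxS hxO => by
    obtain ⟨j, hj⟩ := S.2 ⟨x, hxS⟩
    have h2 : x ^ 2 ^ j = 1 := congrArg Subtype.val hj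
    have h3 : x ^ Nat.card O = 1 := congrArg Subtype.val (pow_card_eq_one' (x := (⟨x, hxO⟩ : O)))
    exact orderOf_eq_one_iff.1 (Nat.eq_one_of_dvd_coprimes ((Nat.coprime_two_left.2 hO).pow_left j)
      (orderOf_dvd_of_pow_eq_one h2) (orderOf_dvd_of_pow_eq_one h3))
  have hinj : ∀ x ∈ (S : Subgroup G), ∀ y ∈ (S : Subgroup G), π x = π y → x = y := fun x hx y hy e =>
    inv_mul_eq_one.1 (hSO _ (mul_mem (inv_mem hx) hy) (QuotientGroup.eq.1 e))
  have hmem : ∀ {y : G ⧸ O}, y ∈ (S' : Subgroup (G ⧸ O)) → ∃ x ∈ (S : Subgroup G), π x = y := fun hy => by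
    rw [hS'] at hy
    exact hy
  have himg : ∀ {x : G}, x ∈ (S : Subgroup G) → π x ∈ (S' : Subgroup (G ⧸ O)) := fun hx => by
    rw [hS']; exact mem_map_of_mem _ hx
  -- `S` centralises `O`
  set Kt := K.comap π with hKt
  set Q := (S : Subgroup G) ⊓ Kt with hQdef
  let g : ↥Q →* ↥((S' : Subgroup (G ⧸ O)) ⊓ K) := MonoidHom.mk'
    (fun x => ⟨π x, Subgroup.mem_inf.2 ⟨himg (Subgroup.mem_inf.1 x.2).1, (Subgroup.mem_inf.1 x.2).2⟩⟩)
    fun a b => Subtype.ext (map_mul π (a : G) b)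
  have hg : Function.Surjective g := by
    rintro ⟨y, hy⟩
    obtain ⟨x, hx, rfl⟩ := hmem (Subgroup.mem_inf.1 hy).1
    exact ⟨⟨x, Subgroup.mem_inf.2 ⟨hx, (Subgroup.mem_inf.1 hy).2⟩⟩, rfl⟩
  have hcentIn : ∀ {x : G}, CentIn (S : Subgroup G) x → CentIn (S' : Subgroup (G ⧸ O)) (π x) := fun hx y hy => by
    obtain ⟨s, hs, rfl⟩ := hmem hy
    rw [← map_mul, ← map_mul, hx s hs]
  have hQO : ∀ o ∈ O, ∀ s ∈ Q, o * s = s * o := by
    obtain ⟨E, iE, iE', φ, hE, h4, hker⟩ := hB.rank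
    refine centralizes_odd (S := (S : Subgroup G)) (S.2.to_le inf_le_left) inf_le_left hO (φ.comp g) hE ?_
      (fun x hx => hker _ (hcentIn hx)) fun x hxQ hxn o ho hox => ?_
    · rwa [MonoidHom.range_comp, MonoidHom.range_eq_top.2 hg, ← MonoidHom.range_eq_map]
    · intro s hs
      have hoN := centralizer_le hCI S (Subgroup.mem_inf.1 hxQ).1 hxn hox
      have hsS := (Subgroup.mem_inf.1 hs).1
      have h1 : o * s * o⁻¹ * s⁻¹ = 1 := hSO _ (mul_mem ((mem_normalizer_iff.1 hoN s).1 hsS) (inv_mem hsS)) (by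
        rw [show o * s * o⁻¹ * s⁻¹ = o * (s * o⁻¹ * s⁻¹) by group]
        exact mul_mem ho (Normal.conj_mem inferInstance _ (inv_mem ho) s))
      calc o * s = o * s * o⁻¹ * s⁻¹ * (s * o) := by group
        _ = s * o := by rw [h1, one_mul]
  obtain ⟨y, hyS, hyK, hyn⟩ := h.noncentral
  obtain ⟨x, hxS, rfl⟩ := hmem hyS
  have hxQ : x ∈ Q := Subgroup.mem_inf.2 ⟨hxS, hyK⟩
  have hSC : ∀ o ∈ O, ∀ s ∈ (S : Subgroup G), o * s = s * o := by
    intro o ho s hs
    have hoN := centralizer_le hCI S hxS (fun hc => hyn (hcentIn hc)) (hQO o ho x hxQ)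
    have h1 : o * s * o⁻¹ * s⁻¹ = 1 := hSO _ (mul_mem ((mem_normalizer_iff.1 hoN s).1 hs) (inv_mem hs)) (by
      rw [show o * s * o⁻¹ * s⁻¹ = o * (s * o⁻¹ * s⁻¹) by group]
      exact mul_mem ho (Normal.conj_mem inferInstance _ (inv_mem ho) s))
    calc o * s = o * s * o⁻¹ * s⁻¹ * (s * o) := by group
      _ = s * o := by rw [h1, one_mul]
  -- the perfect group `L`
  set C := Kt ⊓ centralizer (O : Set G) with hCdef
  haveI : Kt.Normal := h.normal.comap π
  haveI : C.Normal := Subgroup.normal_inf_normal _ _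
  set L := ⁅C, C⁆ with hLdef
  haveI hLn : L.Normal := commutator_normal C C
  have hLC : L ≤ C := commutator_le_self C
  have hCO : ∀ c ∈ C, ∀ o ∈ O, Commute c o := fun c hc o ho =>
    (mem_centralizer_iff.1 (Subgroup.mem_inf.1 hc).2 o ho).symm
  have hxC : x ∈ C := Subgroup.mem_inf.2 ⟨hyK, mem_centralizer_iff.2 fun o ho => hSC o ho x hxS⟩
  have hCK : C.map π = K := by
    have hle : C.map π ≤ K := map_le_iff_le_comap.2 inf_le_left
    haveI : (C.map π).Normal := Subgroup.Normal.map inferInstance π hπ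
    refine (CfsgLib.Coprime.eq_or_le_center_of_le_component hK (Subgroup.Normal.isSubnormal inferInstance) hle).resolve_right
      fun hc => hyn (centIn_of_centralizes h.ci S' hK hyS fun k hk => ?_)
    exact (mem_centralizer_iff.1 (CfsgLib.Coprime.subgroupOf_le_center hle hc (mem_map_of_mem _ hxC)) k hk)
  have hLK : L.map π = K := by
    rw [hLdef, map_commutator, hCK]
    exact CfsgLib.Coprime.commutator_self_of_isComponent hK
  -- `C` is `L` times odd elements central in `C`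
  have hCdec : ∀ c ∈ C, ∃ z, z ∈ C ∧ z ∈ O ∧ z⁻¹ * c ∈ L := by
    intro c hc
    obtain ⟨l, hl, e⟩ : π c ∈ L.map π := by rw [hLK, ← hCK]; exact mem_map_of_mem _ hc
    refine ⟨c * l⁻¹, mul_mem hc (inv_mem (hLC hl)), (QuotientGroup.eq_one_iff _).1 ?_, by group; exact hl⟩
    show π (c * l⁻¹) = 1
    rw [map_mul, map_inv, e, mul_inv_cancel]
  have hperf : ⁅L, L⁆ = L := by
    refine le_antisymm (commutator_le_self L) ?_
    conv_lhs => rw [hLdef]
    rw [commutator_le]
    intro a ha b hb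
    obtain ⟨z, hzC, hzO, hzl⟩ := hCdec a ha
    obtain ⟨w, hwC, hwO, hwl⟩ := hCdec b hb
    rw [show a = z * (z⁻¹ * a) by group, show b = w * (w⁻¹ * b) by group,
      comm_central ((hCO _ (hLC hwl) z hzO).symm) ((hCO _ hwC z hzO).symm) ((hCO _ (hLC hzl) z hzO).symm)
        ((hCO _ (hLC hzl) w hwO).symm) ((hCO _ (hLC hwl) w hwO).symm)]
    exact commutator_mem_commutator hzl hwl
  have hQL : ∀ s ∈ Q, s ∈ L := by
    intro s hs
    obtain ⟨hsS, hsK⟩ := Subgroup.mem_inf.1 hs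
    have hsC : s ∈ C := Subgroup.mem_inf.2 ⟨hsK, mem_centralizer_iff.2 fun o ho => hSC o ho s hsS⟩
    obtain ⟨z, hzC, hzO, hzl⟩ := hCdec s hsC
    obtain ⟨j, hj⟩ := S.2 ⟨s, hsS⟩
    have h2 : s ^ 2 ^ j = 1 := congrArg Subtype.val hj
    have hzp : z ^ 2 ^ j ∈ L := by
      have h1 : (z⁻¹ * s) ^ 2 ^ j = (z ^ 2 ^ j)⁻¹ := by
        rw [((hCO s hsC z hzO).symm.inv_left).mul_pow, h2, mul_one, inv_pow]
      exact inv_mem_iff.1 (h1 ▸ pow_mem hzl _)
    have hz : z ∈ L := by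
      have ho : (orderOf z).Coprime (2 ^ j) := by
        have hd : orderOf z ∣ Nat.card O := orderOf_dvd_of_pow_eq_one
          (congrArg Subtype.val (pow_card_eq_one' (x := (⟨z, hzO⟩ : O))))
        exact ((Nat.coprime_two_left.2 (hO.of_dvd_nat hd)).pow_left j).symm
      obtain ⟨m, hm⟩ := exists_pow_eq_self_of_coprime ho.symm
      exact hm ▸ pow_mem hzp m
    simpa using mul_mem hz hzl
  -- the abelian group `A`
  set A := (S : Subgroup G) ⊓ P.comap π with hAdef
  have hAn : A.Normal := ⟨fun a ha g => by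
    obtain ⟨haS, haP⟩ := Subgroup.mem_inf.1 ha
    have hgP : g * a * g⁻¹ ∈ P.comap π := (inferInstance : P.Normal).comap π |>.conj_mem a haP g
    obtain ⟨s, hs, e⟩ := hmem (hPS hgP)
    have ho : g * a * g⁻¹ * s⁻¹ ∈ O := (QuotientGroup.eq_one_iff _).1 (by
      show π (g * a * g⁻¹ * s⁻¹) = 1
      rw [map_mul, map_inv π s, e, mul_inv_cancel])
    set o := g * a * g⁻¹ * s⁻¹ with hodef
    have hc : Commute o s := hSC o ho s hs
    obtain ⟨j, hj⟩ := S.2 ⟨a, haS⟩
    obtain ⟨i, hi⟩ := S.2 ⟨s, hs⟩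
    have h2 : (g * a * g⁻¹) ^ 2 ^ (i + j) = 1 := by
      rw [conj_pow, pow_add, mul_comm, pow_mul, show a ^ 2 ^ j = 1 from congrArg Subtype.val hj, one_pow]
      group
    have h3 : o ^ 2 ^ (i + j) = 1 := by
      rw [show g * a * g⁻¹ = o * s by rw [hodef, inv_mul_cancel_right], hc.mul_pow, pow_add, pow_mul s,
        show s ^ 2 ^ i = 1 from congrArg Subtype.val hi, one_pow, mul_one, ← pow_add] at h2
      exact h2
    have h4 : o ^ Nat.card O = 1 := congrArg Subtype.val (pow_card_eq_one' (x := (⟨o, ho⟩ : O)))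
    have h5 : o = 1 := orderOf_eq_one_iff.1 (Nat.eq_one_of_dvd_coprimes ((Nat.coprime_two_left.2 hO).pow_left _)
      (orderOf_dvd_of_pow_eq_one h3) (orderOf_dvd_of_pow_eq_one h4))
    refine Subgroup.mem_inf.2 ⟨?_, hgP⟩
    rw [show g * a * g⁻¹ = o * s by rw [hodef, inv_mul_cancel_right], h5, one_mul]
    exact hs⟩
  haveI := hAn
  have hAab : IsMulCommutative ↥A := ⟨⟨fun a b => Subtype.ext (hinj _ (mul_mem (Subgroup.mem_inf.1 a.2).1 (Subgroup.mem_inf.1 b.2).1) _
    (mul_mem (Subgroup.mem_inf.1 b.2).1 (Subgroup.mem_inf.1 a.2).1) (by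
      show π ((a : G) * b) = π ((b : G) * a)
      rw [map_mul, map_mul]
      exact centIn_of_centralizes h.ci S' hK (himg (Subgroup.mem_inf.1 b.2).1)
        (fun k hk => hPK k hk _ (Subgroup.mem_inf.1 b.2).2) _ (himg (Subgroup.mem_inf.1 a.2).1)))⟩⟩
  have hAC : ∀ a ∈ A, ∀ c ∈ C, a * c * a⁻¹ * c⁻¹ ∈ O ∧ a * c * a⁻¹ * c⁻¹ ∈ C := by
    intro a ha c hc
    refine ⟨(QuotientGroup.eq_one_iff _).1 ?_, mul_mem (Normal.conj_mem inferInstance c hc a) (inv_mem hc)⟩
    show π (a * c * a⁻¹ * c⁻¹) = 1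
    rw [map_mul, map_mul, map_mul, map_inv, map_inv,
      ← hPK (π c) (Subgroup.mem_inf.1 hc).1 (π a) (Subgroup.mem_inf.1 ha).2]
    group
  have hAL : ∀ a ∈ A, ∀ l ∈ L, a * l = l * a := by
    intro a ha
    have hsub : L ≤ centralizer ({a} : Set G) := by
      rw [hLdef, commutator_le]
      intro c hc d hd
      refine mem_centralizer_iff.2 fun w hw => ?_
      rw [Set.mem_singleton_iff.1 hw]
      obtain ⟨hcO, hcC⟩ := hAC a ha c hc
      obtain ⟨hdO, hdC⟩ := hAC a ha d hd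
      have h2 : a * ⁅c, d⁆ * a⁻¹ = ⁅c, d⁆ := by
        calc a * ⁅c, d⁆ * a⁻¹ = ⁅a * c * a⁻¹ * c⁻¹ * c, a * d * a⁻¹ * d⁻¹ * d⁆ := by
              rw [commutatorElement_def, commutatorElement_def]; group
          _ = ⁅c, d⁆ := comm_central (hCO d hd _ hcO).symm (hCO _ hdC _ hcO).symm (hCO c hc _ hcO).symm
              (hCO c hc _ hdO).symm (hCO d hd _ hdO).symm
      exact mul_inv_eq_iff_eq_mul.1 h2
    exact fun l hl => mem_centralizer_iff.1 (hsub hl) a rfl
  -- the index is odd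
  have hSM : (S : Subgroup G) ≤ A ⊔ L := by
    intro s hs
    obtain ⟨k, hk, hkS, hp⟩ := h.exists_mul (himg hs)
    obtain ⟨q, hq, rfl⟩ := hmem hkS
    have hqL : q ∈ L := hQL q (Subgroup.mem_inf.2 ⟨hq, hk⟩)
    have hA : q⁻¹ * s ∈ A := Subgroup.mem_inf.2 ⟨mul_mem (inv_mem hq) hs, by
      rw [mem_comap, map_mul, map_inv]; exact hp⟩
    rw [show s = q * (q⁻¹ * s) by group]
    exact mul_mem (mem_sup_right hqL) (mem_sup_left hA)
  refine ⟨A, L, hAn, hLn, hAab, S.2.to_le inf_le_left, hAL, ?_, ?_, map_le_iff_le_comap.2 inf_le_right,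
    inf_le_left, ?_⟩
  · rw [← Nat.not_even_iff_odd, even_iff_two_dvd]
    exact fun e => S.not_dvd_index (e.trans (index_dvd_of_le hSM))
  · exact Group.isPerfect_def.1 (Subgroup.isPerfect_iff.2 hperf)
  · let f : ↥L →* ↥K := MonoidHom.mk' (fun l => ⟨π l, (Subgroup.mem_inf.1 (hLC l.2)).1⟩)
      fun a b => Subtype.ext (map_mul π (a : G) b)
    have hfO : ∀ l ∈ f.ker, ((l : ↥L) : G) ∈ O := fun l hl =>
      (QuotientGroup.eq_one_iff _).1 (congrArg Subtype.val hl)
    refine ⟨f, ?_, fun l hl => ?_, ?_, fun l => rfl⟩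
    · rintro ⟨k, hk⟩
      obtain ⟨l, hl, rfl⟩ : k ∈ L.map π := by rw [hLK]; exact hk
      exact ⟨⟨l, hl⟩, rfl⟩
    · exact mem_center_iff.2 fun m => Subtype.ext (hCO _ (hLC m.2) _ (hfO l hl)).eq
    · refine hO.of_dvd_nat ?_
      let ι : ↥f.ker →* ↥O := MonoidHom.mk' (fun l => ⟨((l : ↥L) : G), hfO _ l.2⟩) fun _ _ => rfl
      exact Subgroup.card_dvd_of_injective ι fun a b e =>
        Subtype.ext (Subtype.ext (congrArg (fun w : ↥O => (w : G)) e))

end CfsgLib.CentGen
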