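import Cfsg.Agent.Lib.Invol.CentralInter.General.Lift
import Cfsg.Agent.S2112

/-!
# The finite groups with central Sylow `2`-intersections
-/

set_option autoImplicit false
set_option linter.unusedSectionVars false
set_option linter.style.haveILetI false

namespace CfsgLib.CentGen

open Subgroup CfsgLib.CentralNonab

universe u

variable {G : Type u} [Group G] [Finite G]

/-- A perfect central extension with trivial centre. -/
theorem equiv_of_center_bot {L : Type u} [Group L] {Y : Type} [Group Y] (e : L ⧸ center L ≃* Y)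
    (h : center L = ⊥) : Nonempty (L ≃* Y) :=
  ⟨((QuotientGroup.quotientBot (G := L)).symm.trans (QuotientGroup.quotientMulEquivOfEq h.symm)).trans e⟩

theorem main (hCI : CI G) :
    (Group.IsSolvable G ∧ Cfsg.PLengthLE 2 1 G) ∨
    (∀ S : Sylow 2 G, IsMulCommutative ↥(S : Subgroup G)) ∨
    (∃ (N M : Subgroup G) (_ : N.Normal) (_ : M.Normal) (_ : (N.subgroupOf M).Normal), N < M ∧ Odd (Nat.card ↥N) ∧ Odd M.index ∧
      ∃ A L : Subgroup (↥M ⧸ N.subgroupOf M), IsMulCommutative ↥A ∧ IsPGroup 2 ↥A ∧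
        Nonempty (↥L ≃* Matrix.SpecialLinearGroup (Fin 2) (ZMod 5)) ∧ (∀ a ∈ A, ∀ l ∈ L, a * l = l * a) ∧ A ⊔ L = ⊤) ∨
    (∃ (M : Subgroup G), M.Normal ∧ Odd M.index ∧ ∃ A L : Subgroup G, IsMulCommutative ↥A ∧ IsPGroup 2 ↥A ∧
      ((Cfsg.IsInternalDirectProduct A L M ∧
          ((∃ (m : ℕ) (F : Type) (_ : Field F) (_ : Fintype F), 1 ≤ m ∧ Fintype.card F = 2 ^ (2 * m + 1) ∧
              Nonempty (↥L ≃* ↥(Cfsg.Lie.Sz F (2 ^ (m + 1))))) ∨
            (∃ (n : ℕ) (F : Type) (_ : Field F) (_ : Fintype F), 2 ≤ n ∧ Fintype.card F = 4 ^ n ∧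
              (Nonempty (↥L ≃* Cfsg.PSU 3 F (2 ^ n)) ∨ Nonempty (↥L ≃* ↥(Cfsg.SU 3 F (2 ^ n))))))) ∨
        (A ≤ M ∧ L ≤ M ∧ (∀ a ∈ A, ∀ l ∈ L, a * l = l * a) ∧ A ⊔ L = M ∧ Group.IsPerfect ↥L ∧
          Subgroup.center ↥L ≠ ⊥ ∧
          ∃ (F : Type) (_ : Field F) (_ : Fintype F), Fintype.card F = 8 ∧
            Nonempty (↥L ⧸ Subgroup.center ↥L ≃* ↥(Cfsg.Lie.Sz F 4))))) := by
  classical
  haveI : Fact (Nat.Prime 2) := ⟨Nat.prime_two⟩
  by_cases hab : ∀ S : Sylow 2 G, IsMulCommutative ↥(S : Subgroup G)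
  · exact Or.inr (Or.inl hab)
  obtain ⟨S, hna⟩ := not_forall.1 hab
  haveI := CfsgLib.Coprime.pPrimeCore_characteristic (G := G) 2
  set O := Cfsg.pPrimeCore 2 G with hOdef
  have hOodd : Odd (Nat.card O) := by
    rw [← Nat.not_even_iff_odd, even_iff_two_dvd]
    exact CfsgLib.Coprime.pPrimeCore_not_dvd Nat.prime_two
  set π := QuotientGroup.mk' O with hπdef
  have hπ := QuotientGroup.mk'_surjective O
  have hCI' : CI (G ⧸ O) := CfsgLib.CentGen.CI.quotient hCI O
  have hO' : Cfsg.pPrimeCore 2 (G ⧸ O) = ⊥ := CfsgLib.Coprime.pPrimeCore_quotient_eq_bot Nat.prime_two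
  set S' := S.mapSurjective hπ with hS'def
  have hS' : (S' : Subgroup (G ⧸ O)) = (S : Subgroup G).map π := Sylow.coe_mapSurjective ..
  have hinj : ∀ a ∈ (S : Subgroup G), a ∈ O → a = 1 := fun x hxS hxO => by
    obtain ⟨j, hj⟩ := S.2 ⟨x, hxS⟩
    have h2 : x ^ 2 ^ j = 1 := congrArg Subtype.val hj
    have h3 : x ^ Nat.card O = 1 := congrArg Subtype.val (pow_card_eq_one' (x := (⟨x, hxO⟩ : O)))
    exact orderOf_eq_one_iff.1 (Nat.eq_one_of_dvd_coprimes ((Nat.coprime_two_left.2 hOodd).pow_left j)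
      (orderOf_dvd_of_pow_eq_one h2) (orderOf_dvd_of_pow_eq_one h3))
  have hna' : ¬ IsMulCommutative (S' : Subgroup (G ⧸ O)) := fun hc => hna ⟨⟨fun a b => Subtype.ext (by
    have e : π a * π b = π b * π a := congrArg Subtype.val (hc.is_comm.comm
      ⟨π a, by rw [hS']; exact mem_map_of_mem _ a.2⟩ ⟨π b, by rw [hS']; exact mem_map_of_mem _ b.2⟩)
    rw [← map_mul, ← map_mul] at e
    exact inv_mul_eq_one.1 (hinj _ (mul_mem (inv_mem (mul_mem a.2 b.2)) (mul_mem b.2 a.2)) (QuotientGroup.eq.1 e)))⟩⟩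
  haveI := CfsgLib.Coprime.pCore_normal' (G := G ⧸ O) 2
  set P := Cfsg.pCore 2 (G ⧸ O) with hPdef
  by_cases hle : (S' : Subgroup (G ⧸ O)) ≤ P
  · -- a normal Sylow subgroup modulo the odd core
    refine Or.inl ⟨?_, CfsgLib.PGroup.pLengthLE_one_of_not_dvd fun e => S'.not_dvd_index (e.trans (index_dvd_of_le hle))⟩
    haveI : Group.IsNilpotent ↥P := (CfsgLib.Coprime.pCore_isPGroup (G := G ⧸ O) 2).isNilpotent
    haveI : Group.IsSolvable ((G ⧸ O) ⧸ P) := Cfsg.Agent.S0205.result (by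
      rw [← index_eq_card, ← Nat.not_even_iff_odd, even_iff_two_dvd]
      exact fun e => S'.not_dvd_index (e.trans (index_dvd_of_le hle)))
    haveI : Group.IsSolvable (G ⧸ O) :=
      Group.isSolvable_of_ker_le_range P.subtype (QuotientGroup.mk' P) (by rw [QuotientGroup.ker_mk', range_subtype])
    haveI : Group.IsSolvable ↥O := Cfsg.Agent.S0205.result hOodd
    exact Group.isSolvable_of_ker_le_range O.subtype π (by rw [QuotientGroup.ker_mk', range_subtype])
  obtain ⟨K, h⟩ := exists_one hCI' hO' S' hna' hle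
  haveI := h.normal
  have hK := h.comp
  rcases h.cases with he | ⟨hB, hty⟩
  · obtain ⟨e⟩ := he
    -- the double cover of the alternating group of degree five
    refine Or.inr (Or.inr (Or.inl ?_))
    set M := (K ⊔ P).comap π with hM
    haveI : M.Normal := Subgroup.Normal.comap inferInstance π
    have hOM : O ≤ M := fun o ho => by
      rw [hM, mem_comap, hπdef, show QuotientGroup.mk' O o = 1 from (QuotientGroup.eq_one_iff o).2 ho]
      exact one_mem _
    refine ⟨O, M, inferInstance, inferInstance, inferInstance, lt_of_le_of_ne hOM fun he => ?_, hOodd, ?_, ?_⟩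
    · obtain ⟨x, hxS, hxK, hxn⟩ := h.noncentral
      obtain ⟨g, rfl⟩ := hπ x
      have hg : g ∈ M := show π g ∈ K ⊔ P from mem_sup_left hxK
      rw [← he] at hg
      exact hxn (by rw [show π g = 1 from (QuotientGroup.eq_one_iff g).2 hg]; exact fun s _ => by simp)
    · have hSM : (S : Subgroup G) ≤ M := fun s hs => by
        obtain ⟨k, hk, -, hp⟩ := h.exists_mul (s := π s) (by rw [hS']; exact mem_map_of_mem _ hs)
        show π s ∈ K ⊔ P
        rw [show π s = k * (k⁻¹ * π s) by group]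
        exact mul_mem (mem_sup_left hk) (mem_sup_right hp)
      rw [← Nat.not_even_iff_odd, even_iff_two_dvd]
      exact fun e' => S.not_dvd_index (e'.trans (index_dvd_of_le hSM))
    · let ρ : ↥M ⧸ O.subgroupOf M →* G ⧸ O := QuotientGroup.lift (O.subgroupOf M) (π.comp M.subtype)
        fun x hx => (QuotientGroup.eq_one_iff (x : G)).2 (mem_subgroupOf.1 hx)
      have hρ : Function.Injective ρ := (injective_iff_map_eq_one ρ).2 fun w hw => by
        obtain ⟨x, rfl⟩ := QuotientGroup.mk'_surjective _ w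
        exact (QuotientGroup.eq_one_iff x).2 (mem_subgroupOf.2 ((QuotientGroup.eq_one_iff (x : G)).1 hw))
      have hρmem : ∀ y ∈ K ⊔ P, ∃ w, ρ w = y := fun y hy => by
        obtain ⟨g, rfl⟩ := hπ y
        exact ⟨QuotientGroup.mk' _ ⟨g, hy⟩, rfl⟩
      have hPS : P ≤ (S' : Subgroup (G ⧸ O)) := IsPGroup.le_sylow_of_normal (CfsgLib.Coprime.pCore_isPGroup 2) S'
      have hPK : ∀ k ∈ K, ∀ p ∈ P, k * p = p * k := by
        haveI := (CfsgLib.Coprime.pCore_isPGroup (G := G ⧸ O) 2).isNilpotent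
        exact fun k hk p hp => CfsgLib.Coprime.commutator_eq_bot_iff_forall.1
          (CfsgLib.Coprime.component_commutator_solvable_eq_bot hK (R := P) inferInstance
            (by rw [normalizer_eq_top]; exact le_top)) k hk p hp
      refine ⟨P.comap ρ, K.comap ρ, ⟨⟨fun a b => Subtype.ext (hρ ?_)⟩⟩,
        (CfsgLib.Coprime.pCore_isPGroup (G := G ⧸ O) 2).comap_of_injective ρ hρ, ?_, fun a ha l hl => hρ ?_, ?_⟩
      · show ρ (a * b) = ρ (b * a)
        rw [map_mul, map_mul]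
        exact centIn_of_centralizes hCI' S' hK (hPS b.2) (fun k hk => hPK k hk _ b.2) _ (hPS a.2)
      · refine ⟨(MulEquiv.ofBijective ((ρ.comp (K.comap ρ).subtype).codRestrict K fun w => w.2)
          ⟨fun a b hab => Subtype.ext (hρ (congrArg Subtype.val hab)), fun k => ?_⟩).trans e⟩
        obtain ⟨w, hw⟩ := hρmem k (mem_sup_left k.2)
        exact ⟨⟨w, by rw [mem_comap, hw]; exact k.2⟩, Subtype.ext hw⟩
      · rw [map_mul, map_mul]
        exact (hPK _ hl _ ha).symm
      · refine eq_top_iff.2 fun w _ => ?_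
        obtain ⟨x, rfl⟩ := QuotientGroup.mk'_surjective _ w
        obtain ⟨k, hk, p, hp, hkp⟩ := Subgroup.mem_sup_of_normal_left.1 (show π x ∈ K ⊔ P from x.2)
        obtain ⟨wk, hwk⟩ := hρmem k (mem_sup_left hk)
        obtain ⟨wp, hwp⟩ := hρmem p (mem_sup_right hp)
        rw [show QuotientGroup.mk' (O.subgroupOf M) x = wk * wp from hρ (by rw [map_mul, hwk, hwp, hkp]; rfl)]
        exact mul_mem (mem_sup_right (by rw [mem_comap, hwk]; exact hk)) (mem_sup_left (by rw [mem_comap, hwp]; exact hp))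
  -- the larger components
  obtain ⟨A, L, hAn, hLn, hAab, hA2, hAL, hodd, hperf, hAP, hAS, f, hf, hfc, hfo, hfπ⟩ :=
    exists_lift hCI S hOodd hS' h hB
  haveI := hAn
  haveI := hLn
  refine Or.inr (Or.inr (Or.inr ⟨A ⊔ L, inferInstance, hodd, A, L, hAab, hA2, ?_⟩))
  have hPK : ∀ k ∈ K, ∀ p ∈ P, k * p = p * k := by
    haveI := (CfsgLib.Coprime.pCore_isPGroup (G := G ⧸ O) 2).isNilpotent
    exact fun k hk p hp => CfsgLib.Coprime.commutator_eq_bot_iff_forall.1
      (CfsgLib.Coprime.component_commutator_solvable_eq_bot hK (R := P) inferInstance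
        (by rw [normalizer_eq_top]; exact le_top)) k hk p hp
  obtain ⟨ε⟩ := exists_center_equiv f hf hfc hperf
  rcases hty with ⟨hZ, hty⟩ | ⟨hZ, F, iF, iF', hc, ⟨e⟩⟩
  · refine Or.inl ⟨⟨le_sup_left, le_sup_right, hAL, ?_, rfl⟩, ?_⟩
    · refine eq_bot_iff.2 fun a ha => mem_bot.2 ?_
      obtain ⟨haA, haL⟩ := Subgroup.mem_inf.1 ha
      refine hinj a (hAS haA) ((QuotientGroup.eq_one_iff a).1 ?_)
      have hK' : f ⟨a, haL⟩ ∈ center ↥K := mem_center_iff.2 fun k => Subtype.ext
        (show (k : G ⧸ O) * (f ⟨a, haL⟩ : G ⧸ O) = (f ⟨a, haL⟩ : G ⧸ O) * k by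
          rw [hfπ]; exact hPK _ k.2 _ (hAP (mem_map_of_mem _ haA)))
      rw [hZ, mem_bot] at hK'
      exact (hfπ ⟨a, haL⟩).symm.trans (congrArg Subtype.val hK')
    -- the centre of `L` has odd order
    have hLZ : Odd (Nat.card (center ↥L)) := by
      rwa [← comap_center_eq f hf hfc hperf, hZ, MonoidHom.comap_bot]
    let e₀ : ↥K ⧸ center ↥K ≃* ↥K := (QuotientGroup.quotientMulEquivOfEq hZ).trans QuotientGroup.quotientBot
    rcases hty with ⟨F, iF, iF', m, hm, hc, ⟨e⟩⟩ | ⟨n, F, iF, iF', hn, hc, ⟨e⟩⟩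
    · refine Or.inl ⟨m, F, iF, iF', hm, hc, equiv_of_center_bot ((ε.trans e₀).trans e) ?_⟩
      obtain ⟨φ⟩ := CfsgLib.Lie.Suz.exists_twEquiv (F := F) (m := m) hm hc
      haveI : Finite ↥(Cfsg.Lie.Sz F (2 ^ (m + 1))) := Finite.of_equiv _ φ.toEquiv
      rcases Nat.lt_or_ge m 2 with hm2 | hm2
      · obtain rfl : m = 1 := by omega
        have hd := CfsgLib.Gold.card_center_dvd (Cfsg.Agent.S2112.result (F := F) (by rw [hc]; norm_num)) hperf
          ((ε.trans e₀).trans e)
        rw [Nat.card_congr Multiplicative.toAdd, Nat.card_prod, Nat.card_zmod] at hd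
        obtain ⟨i, -, hi⟩ := (Nat.dvd_prime_pow Nat.prime_two).1 (show Nat.card (center ↥L) ∣ 2 ^ 2 from hd)
        rcases i with _ | i
        · exact Subgroup.card_eq_one.1 hi
        · rw [hi, ← Nat.not_even_iff_odd] at hLZ
          exact absurd (Nat.even_pow.2 ⟨even_two, by omega⟩) hLZ
      · have hd := CfsgLib.Gold.card_center_dvd (Cfsg.Agent.S2111.result hm2 hc) hperf ((ε.trans e₀).trans e)
        rw [Nat.card_congr Multiplicative.toAdd, Nat.card_zmod] at hd
        exact Subgroup.card_eq_one.1 (Nat.dvd_one.1 hd)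
    · refine Or.inr ⟨n, F, iF, iF', hn, hc, ?_⟩
      have hF : Fintype.card F = (2 ^ n) ^ 2 := by
        rw [hc, ← pow_mul, show (4 : ℕ) = 2 ^ 2 from rfl, ← pow_mul, mul_comm]
      haveI : NeZero (Nat.gcd 3 (2 ^ n + 1)) := ⟨(Nat.gcd_pos_of_pos_left _ (by norm_num)).ne'⟩
      haveI : Finite (Cfsg.PSU 3 F (2 ^ n)) := Finite.of_equiv _ e.toEquiv
      have hd := CfsgLib.Gold.card_center_dvd (CfsgLib.CentralNonab.psu_three_multiplier hn hF) hperf
        ((ε.trans e₀).trans e)
      rw [Nat.card_congr Multiplicative.toAdd, Nat.card_zmod] at hd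
      rcases (Nat.dvd_prime Nat.prime_three).1 (hd.trans (Nat.gcd_dvd_left _ _)) with h1 | h3
      · exact Or.inl (equiv_of_center_bot ((ε.trans e₀).trans e) (Subgroup.card_eq_one.1 h1))
      · -- the universal cover
        right
        let L₀ := Shrink.{0} ↥L
        let η : L₀ ≃* ↥L := Shrink.mulEquiv
        haveI : Finite L₀ := Finite.of_equiv _ η.symm.toEquiv
        let τ : L₀ →* Cfsg.PSU 3 F (2 ^ n) :=
          ((ε.trans e₀).trans e).toMonoidHom.comp ((QuotientGroup.mk' (center ↥L)).comp η.toMonoidHom)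
        have hτker : ∀ x, x ∈ τ.ker ↔ η x ∈ center ↥L := fun x =>
          ((ε.trans e₀).trans e).map_eq_one_iff.trans (QuotientGroup.eq_one_iff (η x))
        have hτc : τ.ker ≤ center L₀ := fun x hx => mem_center_iff.2 fun y => η.injective (by
          rw [map_mul, map_mul]; exact mem_center_iff.1 ((hτker x).1 hx) _)
        have hL₀ : commutator L₀ = ⊤ := by
          rw [_root_.commutator_def, ← Subgroup.map_top_of_surjective η.symm.toMonoidHom η.symm.surjective,
            ← map_commutator, ← _root_.commutator_def, hperf]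
        obtain ⟨C⟩ := CfsgLib.Classical.uctx_exists hF
        haveI : Fact (Nat.Prime 3) := ⟨Nat.prime_three⟩
        have hsu : commutator ↥(Cfsg.SU 3 F (2 ^ n)) = ⊤ :=
          CfsgLib.Classical.WeilSU.su_perfect hF le_rfl (fun h2 => by
            have := Nat.pow_le_pow_right (show 0 < 2 by norm_num) hn
            omega)
        have hb : CfsgLib.Lie.Mult.Orth.SBound ↥(Cfsg.SU 3 F (2 ^ n)) 1 := fun Γ _ _ σ hσ => by
          by_contra hlt
          obtain ⟨ℓ, hℓ, hdℓ⟩ := Nat.exists_prime_and_dvd (n := Nat.card σ.ker) (by omega)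
          haveI := Fact.mk hℓ
          exact CfsgLib.Lie.Mult.Unit.nop_three (C := C) (p := 2) (a := n) rfl hF
            (Nat.pow_le_pow_right (show 0 < 2 by norm_num) hn) Γ σ hσ hdℓ
        have hid : Cfsg.IsStemExtension (MonoidHom.id ↥(Cfsg.SU 3 F (2 ^ n))) :=
          ⟨fun x => ⟨x, rfl⟩, by rw [MonoidHom.ker_id]; exact bot_le, by rw [MonoidHom.ker_id]; exact bot_le⟩
        obtain ⟨ψ, hψ, -⟩ := exists_surj_cover
          (QuotientGroup.mk' (center ↥(Cfsg.SU 3 F (2 ^ n)))) (QuotientGroup.mk'_surjective _) τ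
          (((ε.trans e₀).trans e).surjective.comp ((QuotientGroup.mk'_surjective _).comp η.surjective)) hτc hL₀
          fun Q _ _ q hq hqc => CfsgLib.Lie.Mult.Orth.exists_section_of_bound (MonoidHom.id _) hid hsu hb
            (by rw [MonoidHom.ker_id, Subgroup.card_bot]) Q q hq hqc
        have hcard : Nat.card ↥(Cfsg.SU 3 F (2 ^ n)) = Nat.card L₀ := by
          refine le_antisymm ?_ (Nat.card_le_card_of_surjective ψ hψ)
          rw [Nat.card_congr η.toEquiv, Subgroup.card_eq_card_quotient_mul_card_subgroup (center ↥L),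
            Subgroup.card_eq_card_quotient_mul_card_subgroup (center ↥(Cfsg.SU 3 F (2 ^ n))),
            Nat.card_congr ((ε.trans e₀).trans e).toEquiv, h3, C.card_center_su (n := 3) hF le_rfl]
          exact Nat.mul_le_mul_left _ (Nat.gcd_le_left _ (by norm_num))
        exact ⟨η.symm.trans (MulEquiv.ofBijective ψ
          ((Nat.bijective_iff_surjective_and_card ψ).2 ⟨hψ, hcard⟩)).symm⟩
  · refine Or.inr ⟨le_sup_left, le_sup_right, hAL, rfl, Group.isPerfect_def.2 hperf, fun hbot => hZ ?_,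
      F, iF, iF', hc, ⟨ε.trans e⟩⟩
    refine eq_bot_iff.2 fun z hz => ?_
    obtain ⟨l, rfl⟩ := hf z
    have hl : l ∈ center ↥L := by rw [← comap_center_eq f hf hfc hperf]; exact hz
    rw [hbot, mem_bot] at hl
    rw [hl, map_one]
    exact one_mem _

end CfsgLib.CentGen
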